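import Groth.Agent.H25Dual.Points
import Groth.Agent.H12Pic.RigPoints

/-!
# A Poincaré class descended from an isogeny onto the dual
-/

set_option autoImplicit false
set_option linter.style.haveILetI false
set_option linter.unusedSectionVars false
set_option backward.isDefEq.respectTransparency false
set_option synthInstance.maxHeartbeats 400000
set_option maxHeartbeats 1000000
universe u

open CategoryTheory CategoryTheory.Limits MonoidalCategory CartesianMonoidalCategory MonObj AlgebraicGeometry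
open Groth.Agent Groth.Agent.H25AbCube Groth.Agent.H25Dual
open Groth.Agent.H25Theta (pb pT pC pI pO tI)

noncomputable section

namespace Groth.Agent.H25Poinc

variable {k : Type u} [Field k]

/-- Fibrewise algebraic triviality can be checked after a surjection of finite type on the parameters. -/
theorem picZero_of_surjective {X : Scheme.{u}} {f : X ⟶ Spec (CommRingCat.of k)}
    {T T' : Over (Spec (CommRingCat.of k))} (g : T' ⟶ T) [LocallyOfFiniteType g.left] [Surjective g.left]
    {L : (PicF.XT f T).Modules} (hL : PicF.IsInvertible L)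
    (h : AbDual.IsPicZeroCl f T' (PicF.pullCl (PicF.XTmap f g) (PicF.cl L))) :
    AbDual.IsPicZeroCl f T (PicF.cl L) := by
  obtain ⟨L', e, hL', hfib⟩ := h
  obtain ⟨i⟩ := H12Pic.Sep.iso_of_cl_eq (L' := (Scheme.Modules.pullback (PicF.XTmap f g)).obj L) e
  refine ⟨L, rfl, hL, fun t Ω _ _ σ hσ => ?_⟩
  -- a geometric point above
  let W : Over (Spec (CommRingCat.of Ω)) := Over.mk (pullback.snd g.left σ)
  haveI : LocallyOfFiniteType W.hom := MorphismProperty.pullback_snd (P := @LocallyOfFiniteType) _ _ inferInstance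
  haveI : Surjective (pullback.snd g.left σ) := MorphismProperty.pullback_snd (P := @Surjective) _ _ inferInstance
  haveI : Nonempty W.left := ⟨((pullback.snd g.left σ).surjective (IsLocalRing.closedPoint Ω)).choose⟩
  obtain ⟨z⟩ := exists_rat_point W
  let σ' : Spec (CommRingCat.of Ω) ⟶ T'.left := z.left ≫ pullback.fst g.left σ
  have hz : z.left ≫ pullback.snd g.left σ = 𝟙 _ := Over.w z
  have hσ' : σ' ≫ g.left = σ := by
    rw [Category.assoc, pullback.condition, reassoc_of% hz]
  have hr : Set.range σ'.base = {σ' (IsLocalRing.closedPoint Ω)} :=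
    Set.eq_singleton_iff_unique_mem.2 ⟨⟨_, rfl⟩, fun _ ⟨w, hw⟩ => hw ▸ congrArg σ' (Subsingleton.elim w _)⟩
  have h1 := hfib _ Ω σ' hr
  let B : pullback (PicF.XTproj f T) σ ⟶ PicF.XT f T' :=
    pullback.lift (pullback.fst _ _ ≫ pullback.fst f T.hom) (pullback.snd _ _ ≫ σ') (by
      rw [Category.assoc, Category.assoc, ← Over.w g, reassoc_of% hσ', pullback.condition,
        ← Category.assoc, pullback.condition, Category.assoc])
  have hB : B ≫ PicF.XTmap f g = pullback.fst (PicF.XTproj f T) σ := by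
    apply pullback.hom_ext
    · rw [Category.assoc, H17.PullCl.XTmap_fst, pullback.lift_fst]
    · rw [Category.assoc, H17.PullCl.XTmap_snd, pullback.lift_snd_assoc, Category.assoc, hσ']
      exact pullback.condition.symm
  let H : pullback (PicF.XTproj f T) σ ⟶ pullback (PicF.XTproj f T') σ' :=
    pullback.lift B (pullback.snd _ _) (pullback.lift_snd _ _ _)
  have h2 := algEquiv_pullback _ (pullback.snd (PicF.XTproj f T) σ) H (pullback.lift_snd _ _ _) h1
  letI : (pullback (PicF.XTproj f T) σ).Over (Spec (CommRingCat.of Ω)) := ⟨pullback.snd _ _⟩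
  exact H12Pic.CurveFam.algEquiv_congr (pC H _ (pullback.lift_fst _ _ _) L' ≪≫
    (Scheme.Modules.pullback B).mapIso i ≪≫ pC B _ hB L) h2

variable {A At : Over (Spec (CommRingCat.of k))} [GrpObj A] [IsProper A.hom] [GeometricallyIntegral A.hom]
  [GrpObj At] {φ : ∀ T : Over (Spec (CommRingCat.of k)), PicF.Cl (PicF.XT A.hom T) → (T ⟶ At)}
  (hφ : AbDual.IsDualAV Scheme.fppfPrecoverage A At φ)

include hφ in
/-- A rigidified class whose point covers the dual comes from a Poincaré class. -/
theorem exists_poincare_of_cover {T : Over (Spec (CommRingCat.of k))} (M : (PicF.XT A.hom T).Modules)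
    (hM : PicF.IsInvertible M) (hz : AbDual.IsPicZeroCl A.hom T (PicF.cl M)) (r : IsRigidified T M)
    (F : T ⟶ At) (hF : φ T (PicF.cl M) = F) [Flat F.left] [LocallyOfFinitePresentation F.left] [Surjective F.left] :
    ∃ (P : (PicF.XT A.hom At).Modules), PicF.IsInvertible P ∧ AbDual.IsPoincareCl A At φ (PicF.cl P) ∧
      Nonempty ((Scheme.Modules.pullback (PicF.XTmap A.hom F)).obj P ≅ M) := by
  let U := AbDual.ovr At F.left
  let j : U ⟶ T := Over.homMk (𝟙 T.left) ((Category.id_comp _).trans (Over.w F).symm)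
  have hj : j ≫ F = AbDual.ovrHom At F.left := Over.OverMorphism.ext (Category.id_comp _)
  let c : PicF.Rig A.hom η[A].left (Over.w η[A]) T := ⟨PicF.cl M, ⟨M, rfl, hM⟩, Quot.sound r⟩
  let c' := H12Pic.RigPoints.rigPull A.hom (Over.w η[A]) j c
  let p₁ : AbDual.ovr U (pullback.fst F.left F.left) ⟶ T := AbDual.ovrHom U _ ≫ j
  let p₂ : AbDual.ovr U (pullback.fst F.left F.left) ⟶ T :=
    (Over.homMk (pullback.snd F.left F.left) (pullback.condition_assoc At.hom).symm :
        AbDual.ovr (AbDual.ovr At F.left) (pullback.fst F.left F.left) ⟶ AbDual.ovr At F.left) ≫ j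
  have hp : p₁ ≫ F = p₂ ≫ F := Over.OverMorphism.ext (by
    show (pullback.fst F.left F.left ≫ 𝟙 _) ≫ F.left = (pullback.snd F.left F.left ≫ 𝟙 _) ≫ F.left
    rw [Category.comp_id, Category.comp_id]
    exact pullback.condition)
  obtain ⟨i⟩ := rig_injective hφ _ (H11Ample.isInvertible_pullback (PicF.XTmap A.hom p₁) hM)
    (H11Ample.isInvertible_pullback (PicF.XTmap A.hom p₂) hM) (picZero_XTmap p₁ hz) (picZero_XTmap p₂ hz)
    (isRigidified_pull p₁ r) (isRigidified_pull p₂ r)
    (((hφ.relPic.natural _ _ p₁ _ hz).trans ((congrArg (p₁ ≫ ·) hF).trans hp)).trans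
      ((hφ.relPic.natural _ _ p₂ _ hz).trans (congrArg (p₂ ≫ ·) hF)).symm)
  obtain ⟨d, hd⟩ := H12Pic.RigDescent.exists_descended A.hom (Over.w η[A]) isIso_XTproj_app At F.left c' (by
    show PicF.pullCl _ (PicF.pullCl _ (PicF.cl M)) = PicF.pullCl _ (PicF.pullCl _ (PicF.cl M))
    rw [← H17.PullCl.pullCl_comp, ← H17.PullCl.pullCl_comp, ← H12Pic.Sep.XTmap_comp, ← H12Pic.Sep.XTmap_comp]
    exact Quot.sound ⟨i⟩)
  obtain ⟨P, hPd, hP⟩ := d.2.1
  let jinv : T ⟶ U := Over.homMk (𝟙 T.left) ((Category.id_comp _).trans (Over.w F))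
  have hjinv : jinv ≫ j = 𝟙 T := Over.OverMorphism.ext (Category.id_comp _)
  have hF' : jinv ≫ AbDual.ovrHom At F.left = F := Over.OverMorphism.ext (Category.id_comp _)
  have hPF : PicF.pullCl (PicF.XTmap A.hom F) (PicF.cl P) = PicF.cl M := by
    have hd' := congrArg (PicF.pullCl (PicF.XTmap A.hom jinv)) hd
    change PicF.pullCl _ (PicF.pullCl _ d.1) = PicF.pullCl _ (PicF.pullCl _ (PicF.cl M)) at hd'
    rw [← hPd, ← H17.PullCl.pullCl_comp, ← H17.PullCl.pullCl_comp, ← H12Pic.Sep.XTmap_comp,
      ← H12Pic.Sep.XTmap_comp, hjinv, hF'] at hd'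
    refine hd'.trans ?_
    rw [XTmap_eq, whiskerLeft_id, Over.id_left]
    exact H17.PullCl.pullCl_id _
  have hPz : AbDual.IsPicZeroCl A.hom At (PicF.cl P) := picZero_of_surjective F hP (by rw [hPF]; exact hz)
  refine ⟨P, hP, ⟨hPz, Over.OverMorphism.ext ?_, ?_⟩, H12Pic.Sep.iso_of_cl_eq hPF⟩
  · haveI : Epi F.left := Flat.epi_of_flat_of_surjective F.left
    refine (cancel_epi F.left).1 ?_
    have := congrArg CommaMorphism.left ((hφ.relPic.natural _ _ F _ hPz).symm.trans
      ((congrArg (φ T) hPF).trans hF))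
    exact this.trans (Category.comp_id _).symm
  · rw [hPd]
    exact d.2.2

end Groth.Agent.H25Poinc
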