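import Groth.Agent.LeadBC.SectRpush
import Groth.Agent.H10Coh.SchemeH
import Mathlib.CategoryTheory.Sites.SheafCohomology.MayerVietoris
import Mathlib.Topology.Sheaves.MayerVietoris

/-!
# Restricting cohomology to an open outside which it vanishes
-/

set_option autoImplicit false
set_option linter.style.haveILetI false
set_option linter.unusedSectionVars false
set_option backward.isDefEq.respectTransparency false
set_option maxHeartbeats 800000
universe u

open CategoryTheory CategoryTheory.Limits Opposite TopologicalSpace Abelian AlgebraicGeometry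
open Groth.Agent Groth.Agent.LeadFF

noncomputable section

attribute [local instance 10000] H10Coh.hasSheafifyAb H10Coh.hasWeakSheafifyAb H10Coh.hasExtAb H10Coh.enoughInjAb

namespace Groth.Agent.H25Poinc

/-- Cohomology restricts bijectively to an open whose partner in a cover and the overlap are acyclic. -/
theorem bijective_resH_of_cover {T : TopCat.{u}} (F : CohTop.Ab T) (U V : Opens T) (h : U ⊔ V = ⊤)
    (hV : ∀ n, Subsingleton (H10Coh.Hn F n V)) (hUV : ∀ n, Subsingleton (H10Coh.Hn F n (U ⊓ V))) (n : ℕ) :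
    Function.Bijective (H10Coh.resH F n (le_top : U ≤ ⊤)) := by
  suffices key : Function.Bijective (H10Coh.resH F n (le_sup_left : U ≤ U ⊔ V)) by
    have e : ∀ (W : Opens T) (hW : W = U ⊔ V) (hle : U ≤ W),
        Function.Bijective (H10Coh.resH F n hle) := fun W hW hle => by subst hW; exact key
    exact e ⊤ h.symm _
  let S := Opens.mayerVietorisSquare U V
  have hS := S.shortComplex_shortExact
  let ρ : H10Coh.Hn F n (U ⊔ V) → H10Coh.Hn F n U := H10Coh.resH F n (le_sup_left : U ≤ U ⊔ V)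
  have hρ : ∀ x : Ext.{u} S.shortComplex.X₃ F n,
      (Ext.mk₀ biprod.inl).comp ((Ext.mk₀ S.shortComplex.g).comp x (zero_add n)) (zero_add n) = ρ x := fun x => by
    rw [Ext.mk₀_comp_mk₀_assoc]
    show _ = (Ext.mk₀ _).comp x (zero_add n)
    congr 2
    exact biprod.inl_desc _ _
  have hext : ∀ a b : Ext.{u} S.shortComplex.X₂ F n,
      (Ext.mk₀ biprod.inl).comp a (zero_add n) = (Ext.mk₀ biprod.inl).comp b (zero_add n) → a = b := fun a b he => by
    haveI := hV n
    apply Ext.biprodAddEquiv.injective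
    refine Prod.ext he ?_
    exact @Subsingleton.elim (H10Coh.Hn F n V) _ _ _
  refine ⟨(injective_iff_map_eq_zero _).2 fun x hx => ?_, fun z => ?_⟩
  · have hgx : (Ext.mk₀ S.shortComplex.g).comp x (zero_add n) = 0 :=
      hext _ _ ((hρ x).trans (hx.trans (Ext.comp_zero _ _ _ _ _).symm))
    cases n with
    | zero =>
      obtain ⟨φ, rfl⟩ := (Ext.mk₀_bijective _ _).2 x
      rw [Ext.mk₀_comp_mk₀] at hgx
      haveI := hS.epi_g
      have h0 : S.shortComplex.g ≫ φ = 0 := (Ext.mk₀_bijective _ _).1 (hgx.trans (Ext.mk₀_zero _ _).symm)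
      rw [show φ = 0 from (cancel_epi S.shortComplex.g).1 (h0.trans comp_zero.symm)]
      exact Ext.mk₀_zero _ _
    | succ m =>
      obtain ⟨y, hy⟩ := Ext.contravariant_sequence_exact₃ hS F x hgx (show 1 + m = m + 1 by omega)
      rw [← hy, show y = 0 from @Subsingleton.elim _ (hUV m) _ _, Ext.comp_zero]
  · let w : Ext.{u} S.shortComplex.X₂ F n := Ext.biprodAddEquiv.symm (z, 0)
    have hfw : (Ext.mk₀ S.shortComplex.f).comp w (zero_add n) = 0 := @Subsingleton.elim _ (hUV n) _ _
    obtain ⟨x, hx⟩ := Ext.contravariant_sequence_exact₂ hS F w hfw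
    refine ⟨x, (hρ x).symm.trans ?_⟩
    rw [hx]
    exact congrArg Prod.fst (Ext.biprodAddEquiv.apply_symm_apply (z, (0 : Ext.{u} _ F n)))

/-- Restriction to such an open, semilinearly. -/
theorem exists_restrictEquiv {k B : Type u} [CommRing k] [CommRing B] {X : Scheme.{u}}
    [X.Over (Spec (CommRingCat.of k))] (U : X.Opens) [U.toScheme.Over (Spec (CommRingCat.of B))] (s : k → B)
    (P : X.Modules) (n : ℕ) (hbij : Function.Bijective (H10Coh.resH (H10Coh.sh P) n (le_top : U ≤ ⊤)))
    (hs : ∀ c : k, (Scheme.Modules.restrictFunctor U.ι).map (Formal.smulMod k P c) =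
      Formal.smulMod B (P.restrict U.ι) (s c)) :
    ∃ θ : Coh.HH X P n ≃+ Coh.HH U.toScheme (P.restrict U.ι) n, ∀ (c : k) x, θ (c • x) = s c • θ x := by
  let W : Opens X := H10Coh.im U.ι.isOpenEmbedding (⊤ : U.toScheme.Opens)
  have hW : W = U := U.ι_image_top
  have hb : ∀ (W : X.Opens) (hW : W = U), Function.Bijective (H10Coh.resH (H10Coh.sh P) n (le_top : W ≤ ⊤)) :=
    fun W hW => by subst hW; exact hbij
  let r : H10Coh.HnM P n ⊤ ≃+ H10Coh.HnM P n W :=
    AddEquiv.ofBijective (H10Coh.resH (H10Coh.sh P) n (le_top : W ≤ ⊤)) (hb W hW)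
  let θ : Coh.HH X P n ≃+ Coh.HH U.toScheme (P.restrict U.ι) n :=
    ((H10Coh.HHEquiv P n).trans r).trans ((H10Coh.restrEquivM U.ι P n ⊤).trans
      (H10Coh.HHEquiv (P.restrict U.ι) n).symm)
  refine ⟨θ, fun c x => ?_⟩
  rw [← Hm_smulMod, ← Hm_smulMod, ← hs c]
  let f := Formal.smulMod k P c
  apply (H10Coh.HHEquiv (P.restrict U.ι) n).injective
  refine ((H10Coh.HHEquiv (P.restrict U.ι) n).apply_symm_apply _).trans ?_
  refine Eq.trans ?_ (H10Coh.topEquiv_map ((H10Coh.shF U.toScheme).map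
    ((Scheme.Modules.restrictFunctor U.ι).map f)) n (θ x)).symm
  show H10Coh.restrEquivM U.ι P n ⊤ (r (H10Coh.HHEquiv P n (Hm f n x))) =
    (H10Coh.HHEquiv (P.restrict U.ι) n (θ x)).comp _ _
  rw [show H10Coh.HHEquiv P n (Hm f n x) = (H10Coh.HHEquiv P n x).comp (Ext.mk₀ ((H10Coh.shF X).map f))
      (add_zero n) from H10Coh.topEquiv_map ((H10Coh.shF X).map f) n x,
    show H10Coh.HHEquiv (P.restrict U.ι) n (θ x) = H10Coh.restrEquivM U.ι P n ⊤ (r (H10Coh.HHEquiv P n x)) from
      (H10Coh.HHEquiv (P.restrict U.ι) n).apply_symm_apply _]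
  show H10Coh.restrEquiv _ _ _ _ (H10Coh.resH _ _ _ _) = _
  rw [H10Coh.resH_comp]
  exact H10Coh.restrEquiv_map U.ι.isOpenEmbedding _ n _ _

end Groth.Agent.H25Poinc
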