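import Groth.Agent.H25Poinc.Family
import Groth.Agent.H25Poinc.Restriction
import Groth.Agent.LeadBC.Grauert
import Groth.Agent.LeadBC.SectRpush
import Groth.Agent.H25Pic0.Surj
import Groth.Agent.H15Site.LerayDeg
import Groth.Agent.H25Par.FiniteSupport
import Groth.Agent.H12Pic.PicCurve.Good
import Groth.Agent.LeadProper.Supp
import Groth.Agent.H11Tilde.TwistPow

/-!
# The cohomology and the higher direct images of the Poincaré module
-/

set_option autoImplicit false
set_option linter.style.haveILetI false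
set_option linter.unusedSectionVars false
set_option backward.isDefEq.respectTransparency false
set_option synthInstance.maxHeartbeats 400000
set_option maxHeartbeats 2000000
universe u

open CategoryTheory CategoryTheory.Limits MonoidalCategory CartesianMonoidalCategory MonObj AlgebraicGeometry
  IsLocalRing TopologicalSpace Opposite
open Groth.Agent Groth.Agent.H25AbCube Groth.Agent.H25Dual Groth.Agent.H25Pic0
open Groth.Agent.LeadBC Groth.Agent.H06FlatCx Groth.Agent.LeadFF
open Groth.Agent.H25Theta (pb pT pC pI pO tI)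

noncomputable section

attribute [local instance 10000] H10Coh.hasSheafifyAb H10Coh.hasWeakSheafifyAb H10Coh.hasExtAb H10Coh.enoughInjAb

namespace Groth.Agent.H25Poinc

/-- Sections of an invertible-free rank one module on a one point space. -/
theorem nonempty_iso_structure_of_cyclic {k : Type u} [Field k] (M : (Spec (CommRingCat.of k)).Modules)
    (y₀ : Γ(M, ⊤)) (h0 : y₀ ≠ 0) (hcyc : ∀ y : Γ(M, ⊤), ∃ a : Γ(Spec (CommRingCat.of k), ⊤), y = a • y₀) :
    Nonempty (M ≅ Coh.structureModule (Spec (CommRingCat.of k))) := by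
  haveI : Subsingleton ↥(Spec (CommRingCat.of k)) := inferInstanceAs (Subsingleton (PrimeSpectrum k))
  haveI := H11Tilde.isIso_homOfGlobal M y₀ fun V => by
    rcases Set.eq_empty_or_nonempty (V : Set ↥(Spec (CommRingCat.of k))) with hV | ⟨x, hx⟩
    · obtain rfl : V = ⊥ := Opens.ext hV
      haveI : Subsingleton Γ(M, (⊥ : (Spec (CommRingCat.of k)).Opens)) :=
        subsingleton_of_forall_eq 0 fun s => TopCat.Presheaf.section_ext (H10Coh.sh M) ⊥ s 0 fun y hy => hy.elim
      haveI : Subsingleton Γ(Spec (CommRingCat.of k), (⊥ : (Spec (CommRingCat.of k)).Opens)) :=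
        CommRingCat.subsingleton_of_isTerminal (Spec (CommRingCat.of k)).sheaf.isTerminalOfEmpty
      exact ⟨fun a b _ => Subsingleton.elim a b, fun s => ⟨0, Subsingleton.elim _ _⟩⟩
    · obtain rfl : V = ⊤ := top_le_iff.1 fun z _ => by rwa [Subsingleton.elim z x]
      simp only [H10Coh.mres_self]
      refine ⟨fun a b hab => ?_, fun y => ?_⟩
      · by_contra hne
        have hz : (a - b) • y₀ = 0 := by rw [sub_smul]; exact sub_eq_zero.2 hab
        have hu : IsUnit (a - b) := by
          let e := (Scheme.ΓSpecIso (CommRingCat.of k)).commRingCatIsoToRingEquiv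
          have h1 : e (a - b) ≠ 0 := fun h => hne (sub_eq_zero.1 (e.injective (h.trans (map_zero e).symm)))
          have h2 := (isUnit_iff_ne_zero.2 h1).map e.symm
          rwa [e.symm_apply_apply] at h2
        exact h0 ((hu.smul_eq_zero).1 hz)
      · obtain ⟨a, ha⟩ := hcyc y
        exact ⟨a, ha.symm⟩
  exact ⟨(asIso (H11Tilde.homOfGlobal M y₀)).symm⟩

/-- The action of the ground ring on an open over a bigger ring. -/
theorem appIso_scal {k B : Type u} [CommRing k] [CommRing B] {X : Scheme.{u}} (U : X.Opens)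
    (gX : X ⟶ Spec (CommRingCat.of k)) (gU : U.toScheme ⟶ Spec (CommRingCat.of B)) (s : k →+* B)
    (h : gU ≫ Spec.map (CommRingCat.ofHom s) = U.ι ≫ gX) (O : U.toScheme.Opens) (c : k) :
    scal gU O (s c) = (U.ι.appIso O).hom (scal gX (U.ι ''ᵁ O) c) := by
  have h1 : CommRingCat.ofHom (scal gX (U.ι ''ᵁ O)) ≫ (U.ι.appIso O).hom =
      CommRingCat.ofHom s ≫ CommRingCat.ofHom (scal gU O) := by
    rw [scal_eq_appLE, scal_eq_appLE, Category.assoc, Scheme.ΓSpecIso_inv_naturality_assoc,
      Scheme.Hom.appTop, Scheme.Hom.app_eq_appLE (Spec.map (CommRingCat.ofHom s)) (U := ⊤),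
      Scheme.Hom.appIso_hom']
    congr 1
    erw [Scheme.Hom.appLE_comp_appLE, Scheme.Hom.appLE_comp_appLE]
    simp only [h]
  exact (ConcreteCategory.congr_hom h1 c).symm

section Universal

variable {k : Type u} [Field k] {A At : Over (Spec (CommRingCat.of k))} [GrpObj A] [IsProper A.hom]
  [GeometricallyIntegral A.hom] [GrpObj At] [IsProper At.hom] [GeometricallyIntegral At.hom]
  (P : (A ⊗ At).left.Modules) (hP : PicF.IsInvertible P) (hU₀ : Universal A At P hP)
  (g : ℕ) (hg : topologicalKrullDim A.left = g) {d : ℕ} (hd : topologicalKrullDim At.left = d) (hgd : g ≤ d)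

include hU₀ in
/-- The fibres off the origin have no cohomology. -/
theorem subsingleton_fiberH_of_neU (y : At.left) (hy : y ≠ e0 At) (n : ℕ) :
    Subsingleton (CohIII.fiberH (snd A At).left P y n) := by
  let f := (snd A At).left
  haveI : IsLocallyNoetherian At.left := LocallyOfFiniteType.isLocallyNoetherian At.hom
  haveI : IsProper f := MorphismProperty.pullback_snd (P := @IsProper) A.hom At.hom inferInstance
  have hPc := H11Ample.isCoh_of_isInvertible hP
  haveI : P.IsQuasicoherent := hPc.1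
  haveI : Flat f := MorphismProperty.pullback_snd (P := @Flat) A.hom At.hom inferInstance
  have hfl := H10Coh.SheafHom.isFlatOver_of_isFinLocFree f P (H23Para.isFinLocFree_of_isInvertible hP)
  refine H12Pic.PicCurve.subsingleton_fiberH_of_fiberRank f hP ?_
  obtain ⟨V, hV, hyV, -⟩ := LeadBC.affine_around y (U := ⊤) trivial
  obtain ⟨ι₀, _, U, hU, ⟨m⟩⟩ := exists_chart_model (f := f) (hV := hV) hPc hfl
  let K := AlgebraicClosure (At.left.residueField y)
  let t : Spec (CommRingCat.of K) ⟶ At.left :=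
    Spec.map (CommRingCat.ofHom (algebraMap (At.left.residueField y) K)) ≫ At.left.fromSpecResidueField y
  have ht : ∀ s, t.base s = y := fun s => Scheme.fromSpecResidueField_apply y _
  rw [m.fiberRank_chart hU hyV n,
    ← m.finrank_bc_chart hU (K := K) (geoIn t) t (isPullback_geoIn t) hyV ht _ (Iso.refl _) n]
  haveI := hU₀.geo t (fun s hs => hy ((ht s).symm.trans hs)) n
  exact Module.finrank_zero_of_subsingleton

variable [HasInjectiveResolutions (A ⊗ At).left.Modules]

include hU₀ hg hd hgd in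
/-- The cohomology of the Poincaré module is a line in degree `g` and its direct image a skyscraper. -/
theorem global_factsU :
    letI : (A ⊗ At).left.Over (Spec (CommRingCat.of k)) := ⟨(A ⊗ At).hom⟩
    (∀ n, n ≠ g → Subsingleton (Coh.HH (A ⊗ At).left P n)) ∧
      Module.finrank k (Coh.HH (A ⊗ At).left P g) = 1 ∧
      (∀ n, n ≠ g → IsZero ((Coh.Rpush (snd A At).left n).obj P)) ∧
      Nonempty ((Coh.Rpush (snd A At).left g).obj P ≅
        (Coh.push (η[At] : 𝟙_ _ ⟶ At).left).obj (Coh.structureModule (Spec (CommRingCat.of k)))) := by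
  classical
  letI : (A ⊗ At).left.Over (Spec (CommRingCat.of k)) := ⟨(A ⊗ At).hom⟩
  obtain ⟨hloc, hlen, -, -⟩ := local_factsU P hP hU₀ g hg hd hgd
  haveI : IsLocallyNoetherian At.left := LocallyOfFiniteType.isLocallyNoetherian At.hom
  let f := (snd A At).left
  haveI : IsProper f := MorphismProperty.pullback_snd (P := @IsProper) A.hom At.hom inferInstance
  haveI : Flat f := MorphismProperty.pullback_snd (P := @Flat) A.hom At.hom inferInstance
  have hPc := H11Ample.isCoh_of_isInvertible hP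
  haveI : P.IsQuasicoherent := hPc.1
  have hfl := H10Coh.SheafHom.isFlatOver_of_isFinLocFree f P (H23Para.isFinLocFree_of_isInvertible hP)
  let e := e0 At
  let η' : Spec (CommRingCat.of k) ⟶ At.left := (η[At] : 𝟙_ _ ⟶ At).left
  have hη : η' ≫ At.hom = 𝟙 _ := Over.w (η[At] : 𝟙_ _ ⟶ At)
  haveI : IsClosedImmersion η' := by
    haveI : IsClosedImmersion (η' ≫ At.hom) := by rw [hη]; infer_instance
    exact IsClosedImmersion.of_comp η' At.hom
  haveI : Subsingleton ↥(Spec (CommRingCat.of k)) := inferInstanceAs (Subsingleton (PrimeSpectrum k))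
  have hclosed : IsClosed ({e} : Set At.left) := by
    have := η'.isClosedEmbedding.isClosed_range
    rwa [show Set.range η' = {e} from Set.eq_singleton_iff_unique_mem.2
      ⟨⟨_, rfl⟩, fun _ ⟨w, hw⟩ => hw ▸ congrArg η' (Subsingleton.elim w _)⟩] at this
  obtain ⟨W, hW, heW, -⟩ := LeadBC.affine_around e (U := ⊤) trivial
  let V : At.left.Opens := ⟨{e}ᶜ, hclosed.isOpen_compl⟩
  let B := Γ(At.left, W)
  haveI : IsNoetherianRing B := IsLocallyNoetherian.component_noetherian ⟨W, hW⟩
  have hsupp : ∀ n y, y ≠ e → Subsingleton (((Coh.Rpush f n).obj P).presheaf.stalk y) := fun n y hy => by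
    obtain ⟨U, hU, h0⟩ := LeadBC.isZero_near hPc hfl y n (subsingleton_fiberH_of_neU P hP hU₀ y hy n)
    exact subsingleton_stalk_of_restrict _ U h0 y hU
  have hflq : ∀ n, H10Coh.Flasque (H10Coh.sh ((Coh.Rpush f n).obj P)) := fun n =>
    H25Par.flasque_of_finite_support _ (Set.finite_singleton e) (by simpa using hclosed)
      fun y hy => hsupp n y (by simpa using hy)
  have hRV : ∀ n (O : At.left.Opens), O ≤ V → Subsingleton Γ((Coh.Rpush f n).obj P, O) := fun n O hO =>
    subsingleton_of_forall_eq 0 fun s =>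
      H25Par.section_eq_zero (H10Coh.sh ((Coh.Rpush f n).obj P)) (fun y hy => hsupp n y (hO hy)) s
  have hPV : ∀ n (O : At.left.Opens), O ≤ V →
      Subsingleton (H10Coh.Hn (H10Coh.sh P) n (f ⁻¹ᵁ O : (A ⊗ At).left.Opens)) := fun n O hO => by
    have hac : ∀ a m : ℕ, Subsingleton (H10Coh.Hn ((CohTop.Rpush f.base m).obj (Coh.toAb P)) (a + 1)
        (O : Opens At.left)) := fun a m => by
      obtain ⟨em⟩ := H10Coh.nonempty_toAb_rpush f P m
      haveI : Subsingleton (H10Coh.Hn (Coh.toAb ((Coh.Rpush f m).obj P)) (a + 1) (O : Opens At.left)) :=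
        H10Coh.subsingleton_of_flasque (hflq m) a O
      exact subsingleton_of_forall_eq 0 fun x => by
        obtain ⟨y, rfl⟩ : ∃ y, Abelian.Ext.comp y (Abelian.Ext.mk₀ em.hom) (add_zero _) = x :=
          ⟨x.comp (Abelian.Ext.mk₀ em.inv) (add_zero _), by simp [Abelian.Ext.comp_assoc_of_second_deg_zero]⟩
        rw [Subsingleton.elim y 0, Abelian.Ext.zero_comp]
    obtain ⟨E⟩ := H15Site.LerayDeg.nonempty_equiv_sections f.base (O : Opens At.left) n (Coh.toAb P) hac
    obtain ⟨eab⟩ := H10Coh.nonempty_toAb_rpush f P n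
    haveI : Subsingleton ↑(((sheafToPresheaf (Opens.grothendieckTopology ↥At.left) AddCommGrpCat).obj
        (Coh.toAb ((Coh.Rpush f n).obj P))).obj (op O)) := hRV n O hO
    exact (E.toEquiv.trans
      (((sheafToPresheaf _ _).mapIso eab).app (op O)).addCommGroupIsoToAddEquiv.toEquiv.symm).subsingleton
  have hbij : ∀ n, Function.Bijective
      (H10Coh.resH (H10Coh.sh P) n (le_top : (f ⁻¹ᵁ W : (A ⊗ At).left.Opens) ≤ ⊤)) := fun n =>
    bijective_resH_of_cover (H10Coh.sh P) (f ⁻¹ᵁ W) (f ⁻¹ᵁ V)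
      (top_le_iff.1 fun x _ => (em (f x = e)).elim (fun h => Or.inl (show f x ∈ W from h ▸ heW)) fun h => Or.inr h)
      (fun n => hPV n V le_rfl) (fun n => hPV n (W ⊓ V) inf_le_right) n
  -- the ground field inside the ring of the chart
  let s0 : CommRingCat.of k ⟶ CommRingCat.of B := Spec.preimage (hW.fromSpec ≫ At.hom)
  have hs0 : Spec.map s0 = hW.fromSpec ≫ At.hom := Spec.map_preimage _
  letI := preOver f hW
  have hs : ∀ c : k, (Scheme.Modules.restrictFunctor (f ⁻¹ᵁ W).ι).map (Formal.smulMod k P c) =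
      Formal.smulMod B (P.restrict (f ⁻¹ᵁ W).ι) (s0.hom c) := fun c => by
    let U₀ := (f ⁻¹ᵁ W).toScheme
    let π := U₀ ↘ Spec (CommRingCat.of B)
    have hπ : π ≫ Spec.map (CommRingCat.ofHom s0.hom) = (f ⁻¹ᵁ W).ι ≫ (A ⊗ At).hom := by
      show ((f ∣_ W) ≫ hW.isoSpec.hom) ≫ Spec.map s0 = _
      rw [hs0, Category.assoc, hW.isoSpec_hom_fromSpec_assoc, morphismRestrict_ι_assoc,
        show f ≫ At.hom = (A ⊗ At).hom from Over.w (snd A At)]
    refine hom_ext_sections _ _ fun O m => ?_
    show scal (A ⊗ At).hom ((f ⁻¹ᵁ W).ι ''ᵁ O) c • (show Γ(P, (f ⁻¹ᵁ W).ι ''ᵁ O) from m) = scal π O (s0.hom c) • m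
    rw [appIso_scal (B := B) (f ⁻¹ᵁ W) (A ⊗ At).hom π s0.hom hπ O c]
    refine Eq.trans ?_ (H11Ample.toImg_smul (f ⁻¹ᵁ W) P _ m).symm
    rw [Iso.hom_inv_id_apply]
  -- sections over the chart and cohomology over the local ring
  letI : Algebra B (R0 At) := TopCat.Presheaf.algebra_section_stalk At.left.presheaf (⟨e, heW⟩ : W)
  let 𝔭 := (hW.primeIdealOf ⟨e, heW⟩).asIdeal
  haveI hloc' : IsLocalization.AtPrime (R0 At) 𝔭 := hW.isLocalization_stalk ⟨e, heW⟩
  haveI : 𝔭.IsMaximal := hW.primeIdealOf_isMaximal_of_isClosed ⟨e, heW⟩ hclosed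
  obtain ⟨ι₀, _, U, hU, ⟨m⟩⟩ := exists_chart_model (f := f) (hV := hW) hPc hfl
  haveI : (chartF f hW P).IsQuasicoherent := H29Fitt.isQCoh_pullback _ P inferInstance
  have hspec : Spec.map (CommRingCat.ofHom (algebraMap B (R0 At))) ≫ hW.fromSpec = At.left.fromSpecStalk e :=
    hW.fromSpecStalk_eq_fromSpecStalk heW
  let q : XR A At ⟶ chartX f hW := pullback.lift (pullback.fst _ _)
    (pullback.snd _ _ ≫ Spec.map (CommRingCat.ofHom (algebraMap B (R0 At))))
    (by rw [Category.assoc, hspec]; exact pullback.condition)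
  have hsq : IsPullback q (XR A At ↘ Spec (CommRingCat.of (R0 At))) (chartX f hW ↘ Spec (CommRingCat.of B))
      (Spec.map (CommRingCat.ofHom (algebraMap B (R0 At)))) :=
    IsPullback.of_right (h₁₂ := pullback.fst f hW.fromSpec) (v₁₃ := f) (h₂₂ := hW.fromSpec)
      (by rw [pullback.lift_fst, hspec]; exact IsPullback.of_hasPullback f (At.left.fromSpecStalk e))
      (pullback.lift_snd _ _ _) (IsPullback.of_hasPullback _ _)
  have hgam : ∀ n : ℕ, ∃ gam : Γ((Coh.Rpush f n).obj P, W) ≃+ Coh.HH (XR A At) (FR A At P) n,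
      ∀ (a : B) z, gam (a • z) = algebraMap B (R0 At) a • gam z := fun n => by
    let j := (m.N : ℤ) - n
    let H := H0 m.P (j + 1) j (j - 1)
    haveI := (m.finite_free j).1
    haveI : Module.Finite B H := finite_h0 m.P _ _ _
    obtain ⟨es⟩ := m.exists_sections_equiv hU n
    have hrad : 𝔭 ≤ (Module.annihilator B H).radical := by
      rw [Ideal.radical_eq_sInf]
      refine le_sInf fun J hJ => ?_
      by_contra hne
      have hyW : hW.fromSpec ⟨J, hJ.2⟩ ∈ W := by
        show hW.fromSpec ⟨J, hJ.2⟩ ∈ (W : Set At.left)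
        rw [← hW.range_fromSpec]
        exact ⟨_, rfl⟩
      have hyeq : hW.primeIdealOf ⟨_, hyW⟩ = ⟨J, hJ.2⟩ :=
        hW.fromSpec.isOpenEmbedding.injective (hW.fromSpec_primeIdealOf ⟨_, hyW⟩)
      have hye : hW.fromSpec ⟨J, hJ.2⟩ ≠ e := fun h => hne (by
        have h1 : hW.primeIdealOf ⟨_, hyW⟩ = hW.primeIdealOf ⟨e, heW⟩ := congrArg _ (Subtype.ext h)
        rw [hyeq] at h1
        exact (congrArg PrimeSpectrum.asIdeal h1).ge)
      obtain ⟨-, -, h3⟩ := local_of_dRank_zero m.P m.finite_flat _ _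
        (m.subsingleton_chart_point hU _ hyW n (subsingleton_fiberH_of_neU P hP hU₀ _ hye n))
      obtain ⟨a, ha, hkill⟩ := exists_smul_h0_eq_zero m.P m.finite_flat _ _ h3
      rw [hyeq] at ha
      exact ha (hJ.1 (Module.mem_annihilator.2 hkill))
    obtain ⟨r, hr⟩ := Ideal.exists_pow_le_of_le_radical_of_fg hrad (IsNoetherian.noetherian _)
    have hinv : ∀ t : B, t ∉ 𝔭 → ∃ b : B, ∀ z : H, (b * t) • z = z := fun t ht => by
      obtain ⟨b, i, hi, hbi⟩ := Ideal.IsMaximal.exists_inv (inferInstanceAs 𝔭.IsMaximal) ht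
      have h1 : ((b * t - 1) ^ r) ∈ Module.annihilator B H := hr (Ideal.pow_mem_pow (by
        rw [show b * t - 1 = -i by rw [← hbi]; ring]
        exact neg_mem hi) r)
      obtain ⟨c, hc⟩ : ∃ c : B, (b * t - 1) ^ r = (b * t) * c + (-1) ^ r := by
        obtain ⟨c, hc⟩ := sub_dvd_pow_sub_pow (b * t - 1) (-1) r
        exact ⟨c, by rw [sub_neg_eq_add, sub_add_cancel] at hc; linear_combination hc⟩
      refine ⟨-(-1) ^ r * b * c, fun z => ?_⟩
      have h2 := Module.mem_annihilator.1 h1 z
      have h3 : (-(-1 : B) ^ r * b * c * t) = 1 - (-1) ^ r * (b * t - 1) ^ r := by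
        have h4 : ((-1 : B) ^ r) * (-1) ^ r = 1 := by rw [← mul_pow, neg_one_mul, neg_neg, one_pow]
        rw [hc]; linear_combination h4
      rw [h3, sub_smul, one_smul, mul_smul, h2, smul_zero, sub_zero]
    let mk := TensorProduct.mk B (R0 At) H 1
    haveI : IsLocalizedModule 𝔭.primeCompl mk := inferInstance
    have hmk : Function.Bijective mk := by
      refine ⟨fun a b hab => ?_, fun w => ?_⟩
      · obtain ⟨c, hc⟩ := (IsLocalizedModule.eq_iff_exists 𝔭.primeCompl mk).1 hab
        obtain ⟨b', hb'⟩ := hinv c.1 c.2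
        rw [← hb' a, ← hb' b, mul_smul, mul_smul]
        exact congrArg (b' • ·) hc
      · obtain ⟨⟨a, c⟩, hc⟩ := IsLocalizedModule.surj 𝔭.primeCompl mk w
        obtain ⟨b', hb'⟩ := hinv c.1 c.2
        refine ⟨b' • a, ?_⟩
        refine ((Module.End.isUnit_iff _).1 (IsLocalizedModule.map_units mk c)).1 ?_
        show (c : B) • mk (b' • a) = (c : B) • w
        rw [← map_smul, ← mul_smul, mul_comm, hb', ← hc]
        rfl
    let E₁ : H ≃ₗ[B] TensorProduct B H (R0 At) :=
      (LinearEquiv.ofBijective mk hmk).trans (TensorProduct.comm B (R0 At) H)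
    haveI : Module.Flat B (R0 At) := IsLocalization.flat _ 𝔭.primeCompl
    haveI := (m.finite_free (j - 1)).2
    let E₂ : H ≃ₗ[B] Tf m.P j (ModuleCat.of B (R0 At)) :=
      E₁.trans (tEquivOfFlat m.P (down_prev _) (down_next _) (ModuleCat.of B (R0 At)))
    obtain ⟨eb, heb⟩ := Model.exists_bcEquiv (R0 At) hsq hU m n
    let ei : Coh.HH (XR A At) (qF q (chartF f hW P)) n ≃ₗ[R0 At] Coh.HH (XR A At) (FR A At P) n :=
      ((HMod (R0 At) n).mapIso (pC q (pullback.fst f hW.fromSpec) (pullback.lift_fst _ _ _) P)).toLinearEquiv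
    refine ⟨(es.symm.toAddEquiv.trans E₂.toAddEquiv).trans (eb.trans ei.toAddEquiv), fun a z => ?_⟩
    show ei (eb (E₂ (es.symm (a • z)))) = _ • ei (eb (E₂ (es.symm z)))
    rw [map_smul, map_smul]
    have hsm : ∀ t : Tf m.P j (ModuleCat.of B (R0 At)),
        a • t = ((CohIII.TFun m.P j).map (LeadBC.mulS (R0 At) B (algebraMap B (R0 At) a))).hom t := fun t => by
      obtain ⟨w, rfl⟩ := tcls_surjective m.P (down_next j) _ t
      refine Eq.trans ?_ (map_tcls m.P (down_next j) _ w).symm
      refine (map_smul (tcls m.P (down_next j) _) a w).symm.trans (congrArg _ (Subtype.ext ?_))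
      show a • (w : TensorProduct B (m.P.X j) (R0 At)) = (LinearMap.mulLeft B (algebraMap B (R0 At) a)).lTensor _ w
      rw [show LinearMap.mulLeft B (algebraMap B (R0 At) a) = a • LinearMap.id from
        LinearMap.ext fun z => (Algebra.smul_def a z).symm, LinearMap.lTensor_smul]
      simp
    rw [hsm, heb, map_smul]
  choose gam hgam using hgam
  -- degrees other than the top
  have hW0 : ∀ n, n ≠ g → Subsingleton Γ((Coh.Rpush f n).obj P, W) := fun n hn => by
    haveI := hloc n hn
    exact (gam n).toEquiv.subsingleton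
  have hres : ∀ n (O : At.left.Opens) (h : O ≤ ⊤), e ∈ O →
      Function.Bijective (((Coh.Rpush f n).obj P).presheaf.map (homOfLE h).op) := fun n O h hO => by
    refine ⟨(injective_iff_map_eq_zero _).2 fun s hs => ?_, hflq n h⟩
    refine TopCat.Presheaf.section_ext (H10Coh.sh ((Coh.Rpush f n).obj P)) ⊤ s 0 fun y _ => ?_
    by_cases hy : y = e
    · subst hy
      rw [map_zero]
      refine (TopCat.Presheaf.germ_res_apply (H10Coh.sh ((Coh.Rpush f n).obj P)).obj (homOfLE h) e hO s).symm.trans ?_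
      rw [show ((H10Coh.sh ((Coh.Rpush f n).obj P)).obj.map (homOfLE h).op) s = 0 from hs, map_zero]
    · exact (hsupp n y hy).elim _ _
  have hzero : ∀ n, n ≠ g → IsZero ((Coh.Rpush f n).obj P) := fun n hn =>
    H25Pic0.isZero_of_forall_sections _ (H25Pic0.sub_sections_of_flasque _ (hflq n)
      (@Function.Injective.subsingleton _ _ _ (hres n W le_top heW).1 (hW0 n hn)))
  obtain ⟨θ, hθ⟩ := (fun n => exists_restrictEquiv (f ⁻¹ᵁ W) (fun c : k => s0.hom c) P n (hbij n) hs) |>
    Classical.skolem.1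
  have he₂ := fun n => exists_rpushEquiv f hW P n
  choose e₂ he₂ using he₂
  let Θ : ∀ n, Coh.HH (A ⊗ At).left P n ≃+ Γ((Coh.Rpush f n).obj P, W) := fun n => (θ n).trans (e₂ n)
  have hΘ : ∀ n (c : k) x, Θ n (c • x) = s0.hom c • Θ n x := fun n c x => by
    show e₂ n (θ n (c • x)) = s0.hom c • e₂ n (θ n x)
    rw [hθ, he₂]
  -- the top degree
  let HR := Coh.HH (XR A At) (FR A At P) g
  haveI hsimp : IsSimpleModule (R0 At) HR := Module.length_eq_one_iff.1 hlen
  haveI : Nontrivial HR := IsSimpleModule.nontrivial (R0 At) HR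
  obtain ⟨v, hv⟩ := exists_ne (0 : HR)
  obtain ⟨z₀, rfl⟩ := (gam g).surjective v
  have hz₀ : z₀ ≠ 0 := fun h => hv (by rw [h, map_zero])
  have hkergam : ∀ r ∈ maximalIdeal (R0 At), r • gam g z₀ = 0 := fun r hr => by
    have hmax : Ideal.IsMaximal (LinearMap.ker (LinearMap.toSpanSingleton (R0 At) HR (gam g z₀)) : Ideal (R0 At)) :=
      (isSimpleModule_iff_isCoatom.1 (IsSimpleModule.congr
        (LinearMap.quotKerEquivOfSurjective (LinearMap.toSpanSingleton (R0 At) HR (gam g z₀))
          (IsSimpleModule.toSpanSingleton_surjective _ hv)))) |> fun h => ⟨h⟩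
    exact LinearMap.mem_ker.1 ((eq_maximalIdeal hmax).ge hr)
  let ψ : CommRingCat.of (R0 At) ⟶ CommRingCat.of k := Scheme.stalkClosedPointTo η'
  have hψ : Spec.map ψ ≫ At.left.fromSpecStalk e = η' := Scheme.Spec_stalkClosedPointTo_fromSpecStalk η'
  let σ : CommRingCat.of k ⟶ CommRingCat.of (R0 At) := s0 ≫ CommRingCat.ofHom (algebraMap B (R0 At))
  have hσψ : σ ≫ ψ = 𝟙 _ := Spec.map_injective (by
    rw [Spec.map_comp, Spec.map_comp, hs0, reassoc_of% hspec, reassoc_of% hψ, hη, Spec.map_id])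
  have hcyc : ∀ z : Γ((Coh.Rpush f g).obj P, W), ∃ c : k, z = s0.hom c • z₀ := fun z => by
    obtain ⟨r, hr⟩ := IsSimpleModule.toSpanSingleton_surjective (R0 At) hv (gam g z)
    refine ⟨ψ.hom r, (gam g).injective ?_⟩
    rw [hgam g]
    change r • gam g z₀ = gam g z at hr
    rw [← hr, ← sub_eq_zero, ← sub_smul]
    refine hkergam _ ?_
    have hd : ψ.hom (r - σ.hom (ψ.hom r)) = 0 := by
      rw [map_sub, show ψ.hom (σ.hom (ψ.hom r)) = ψ.hom r from
        congr($(congrArg CommRingCat.Hom.hom hσψ) (ψ.hom r)), sub_self]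
    exact (IsLocalRing.mem_maximalIdeal _).2 fun hu => (hu.map ψ.hom).ne_zero hd
  refine ⟨fun n hn => ?_, ?_, hzero, ?_⟩
  · haveI := hW0 n hn
    exact (Θ n).toEquiv.subsingleton
  · refine finrank_eq_one ((Θ g).symm z₀) (fun h => hz₀ ?_) fun x => ?_
    · simpa using congrArg (Θ g) h
    · obtain ⟨c, hc⟩ := hcyc (Θ g x)
      exact ⟨c, (Θ g).injective (by rw [hΘ, AddEquiv.apply_symm_apply, hc])⟩
  · let Rg := (Coh.Rpush f g).obj P
    have hRgq : Rg.IsQuasicoherent := H10Coh.isQuasicoherent_rpush f P g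
    obtain ⟨zT, hzT⟩ := (hres g W le_top heW).2 z₀
    have hgen : ∀ z : Γ(Rg, ⊤), ∃ c : k, z = scal At.hom ⊤ c • zT := fun z => by
      obtain ⟨c, hc⟩ := hcyc (Rg.presheaf.map (homOfLE (le_top : W ≤ ⊤)).op z)
      refine ⟨c, (hres g W le_top heW).1 ?_⟩
      rw [Scheme.Modules.map_smul, hzT, map_scal]
      refine hc.trans (congrArg (· • z₀) ?_)
      have h1 : CommRingCat.ofHom (scal At.hom W) = s0 := Spec.map_injective (by
        rw [hs0, scal_eq_appLE, Spec.map_comp]
        haveI : IsAffine (Spec (CommRingCat.of k)) := inferInstance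
        rw [← Scheme.isoSpec_Spec_inv, ← IsAffineOpen.fromSpec_top]
        exact IsAffineOpen.SpecMap_appLE_fromSpec At.hom (isAffineOpen_top _) hW le_top)
      exact (ConcreteCategory.congr_hom h1 c).symm
    have hkill : ClSub.KilledByIdeal η'.ker Rg := fun U a ha m => by
      refine TopCat.Presheaf.section_ext (H10Coh.sh Rg) U.1 _ 0 fun y hy => ?_
      by_cases hye : y = e
      · subst hye
        rw [map_zero]
        refine (H06Mod.germ_smul Rg U.1 hy a m).trans ?_
        have hm : (η' ⁻¹ᵁ U.1 : (Spec (CommRingCat.of k)).Opens) = ⊤ :=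
          top_le_iff.1 fun w _ => show η' w ∈ U.1 by rw [Subsingleton.elim w (closedPoint k)]; exact hy
        have hga : At.left.presheaf.germ U.1 e hy a ∈ maximalIdeal (R0 At) := by
          refine (IsLocalRing.mem_maximalIdeal _).2 fun hu => ?_
          have hb : closedPoint k ∈ η' ⁻¹ᵁ At.left.basicOpen a := (At.left.mem_basicOpen a e hy).2 hu
          rw [Scheme.preimage_basicOpen, show η'.app U.1 a = 0 from (by rwa [Scheme.Hom.ker_apply] at ha),
            Scheme.basicOpen_zero] at hb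
          exact hb
        obtain ⟨O, hyO, i, j', hij⟩ : ∃ (O : At.left.Opens) (_ : e ∈ O) (i : O ⟶ W) (j : O ⟶ U.1), True :=
          ⟨W ⊓ U.1, ⟨heW, hy⟩, homOfLE inf_le_left, homOfLE inf_le_right, trivial⟩
        obtain ⟨M', hM'⟩ := hflq g (le_top : U.1 ≤ ⊤) m
        obtain ⟨c, rfl⟩ := hgen M'
        have hm' : m = Rg.presheaf.map (homOfLE le_top).op (scal At.hom ⊤ c • zT) := hM'.symm
        have hgm : Rg.presheaf.germ U.1 e hy m =
            At.left.presheaf.germ ⊤ e trivial (scal At.hom ⊤ c) • Rg.presheaf.germ W e heW z₀ := by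
          rw [hm', TopCat.Presheaf.germ_res_apply, H06Mod.germ_smul, ← hzT, TopCat.Presheaf.germ_res_apply]
        rw [hgm, smul_comm]
        obtain ⟨⟨b, t⟩, hbt⟩ := IsLocalization.surj 𝔭.primeCompl (At.left.presheaf.germ U.1 e hy a : R0 At)
        have hb : b • z₀ = 0 := (gam g).injective (by
          rw [hgam g, map_zero]
          exact hkergam _ (hbt ▸ Ideal.mul_mem_right _ _ hga))
        have hu : IsUnit (algebraMap B (R0 At) t.1) := IsLocalization.map_units _ t
        have hker0 : (algebraMap B (R0 At) b : At.left.presheaf.stalk e) • Rg.presheaf.germ W e heW z₀ = 0 := by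
          refine ((H06Mod.germ_smul Rg W heW b z₀).symm.trans ?_)
          rw [hb, map_zero]
        have hz : (At.left.presheaf.germ U.1 e hy a : At.left.presheaf.stalk e) • Rg.presheaf.germ W e heW z₀ = 0 := by
          refine (hu.smul_eq_zero).1 ?_
          rw [← mul_smul, mul_comm, hbt]
          exact hker0
        rw [hz, smul_zero]
      · exact (hsupp g y hye).elim _ _
    haveI := LeadProper.isIso_unit_of_killedByIdeal Rg hRgq η' hkill
    let M := (Scheme.Modules.pullback η').obj Rg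
    let u := (Scheme.Modules.pullbackPushforwardAdjunction η').unit.app Rg
    have hu : Function.Bijective (u.app ⊤) := H17.PullSect.bijective_app u ⊤
    let y₀ : Γ(M, ⊤) := u.app ⊤ zT
    obtain ⟨j⟩ := nonempty_iso_structure_of_cyclic M y₀ (fun h => hz₀ (by
      rw [← hzT, show zT = 0 from hu.1 (h.trans (map_zero _).symm), map_zero])) fun y => by
      obtain ⟨z, hz⟩ := hu.2 y
      obtain ⟨c, rfl⟩ := hgen z
      exact ⟨η'.app ⊤ (scal At.hom ⊤ c), hz.symm.trans (u.app_smul _ _)⟩
    exact ⟨asIso u ≪≫ (Scheme.Modules.pushforward η').mapIso j⟩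

end Universal

section Dual

variable {k : Type u} [Field k] {A At : Over (Spec (CommRingCat.of k))} [GrpObj A] [IsProper A.hom]
  [GeometricallyIntegral A.hom] [GrpObj At] [IsProper At.hom] [GeometricallyIntegral At.hom]
  {φ : ∀ T : Over (Spec (CommRingCat.of k)), PicF.Cl (PicF.XT A.hom T) → (T ⟶ At)}
  (hφ : AbDual.IsDualAV Scheme.fppfPrecoverage A At φ) (P : (A ⊗ At).left.Modules) (hP : PicF.IsInvertible P)
  (hξ : AbDual.IsPoincareCl A At φ (PicF.cl P)) (g : ℕ) (hg : topologicalKrullDim A.left = g)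

include hφ hP hξ in
/-- The fibres off the origin have no cohomology. -/
theorem subsingleton_fiberH_of_ne (y : At.left) (hy : y ≠ e0 At) (n : ℕ) :
    Subsingleton (CohIII.fiberH (snd A At).left P y n) :=
  subsingleton_fiberH_of_neU P hP (universal hφ P hP hξ) y hy n

variable [HasInjectiveResolutions (A ⊗ At).left.Modules]

include hφ hP hξ hg in
/-- The cohomology of the Poincaré module is a line in degree `g` and its direct image a skyscraper. -/
theorem global_facts :
    letI : (A ⊗ At).left.Over (Spec (CommRingCat.of k)) := ⟨(A ⊗ At).hom⟩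
    (∀ n, n ≠ g → Subsingleton (Coh.HH (A ⊗ At).left P n)) ∧
      Module.finrank k (Coh.HH (A ⊗ At).left P g) = 1 ∧
      (∀ n, n ≠ g → IsZero ((Coh.Rpush (snd A At).left n).obj P)) ∧
      Nonempty ((Coh.Rpush (snd A At).left g).obj P ≅
        (Coh.push (η[At] : 𝟙_ _ ⟶ At).left).obj (Coh.structureModule (Spec (CommRingCat.of k)))) := by
  haveI : IsIntegral At.left := GeometricallyIntegral.isIntegral_of_subsingleton At.hom
  obtain ⟨d, hd⟩ := H25Grp.exists_nat_dim At.hom
  exact global_factsU P hP (universal hφ P hP hξ) g hg hd (dim_le_dual hφ hg hd)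

end Dual

end Groth.Agent.H25Poinc
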