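import Groth.Agent.H25Dual.Points
import Groth.Agent.H25AbCube.GeomTate
import Groth.Agent.H11Ample.AmpleOn

/-!
# The dual has at least the dimension of the variety, over any field
-/

set_option autoImplicit false
set_option linter.style.haveILetI false
set_option linter.unusedSectionVars false
set_option backward.isDefEq.respectTransparency false
set_option synthInstance.maxHeartbeats 400000
set_option maxHeartbeats 1600000
universe u

open CategoryTheory CategoryTheory.Limits MonoidalCategory CartesianMonoidalCategory MonObj AlgebraicGeometry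
open Groth.Agent Groth.Agent.H25AbCube Groth.Agent.H25Dual

noncomputable section

namespace Groth.Agent.H25Poinc

attribute [local instance] Functor.grpObjObj

variable {k : Type u} [Field k] {A At : Over (Spec (CommRingCat.of k))} [GrpObj A] [IsProper A.hom]
  [GeometricallyIntegral A.hom]

/-- The Mumford class is algebraically trivial on the fibres. -/
theorem pz_theta_field (l : PC A.left) : PZ A A (theta l) := by
  obtain ⟨L, hL, rfl⟩ := exists_rep l
  obtain ⟨N, hN, hNe⟩ := exists_rep (theta (pc L hL))
  rw [← hNe]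
  refine pz_pc hN (picZero_mumford hL hN ?_)
  let p := (fst A A).left
  let q := (snd A A).left
  have hp := H11Ample.isInvertible_pullback p hL
  have hq := H11Ample.isInvertible_pullback q hL
  have hm := H11Ample.isInvertible_pullback (μ[A].left) hL
  have hNp := H11Ample.isInvertible_tensor (M := N) hN hp
  refine (pc_eq_iff (H11Ample.isInvertible_tensor hNp hq) hm).1 ?_
  rw [pc_tensor hNp hq, pc_tensor hN hp, hNe, pullP_pc _ L hL hp, pullP_pc _ L hL hq, pullP_pc _ L hL hm, theta,
    show fst A A * snd A A = μ[A] from (congrArg (· ≫ μ[A]) lift_fst_snd).trans (Category.id_comp _)]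
  show ev (pc L hL) μ[A] - ev (pc L hL) (fst A A) - ev (pc L hL) (snd A A) + ev (pc L hL) (fst A A) +
    ev (pc L hL) (snd A A) = ev (pc L hL) μ[A]
  abel

variable [GrpObj At] {φ : ∀ T : Over (Spec (CommRingCat.of k)), PicF.Cl (PicF.XT A.hom T) → (T ⟶ At)}
  (hφ : AbDual.IsDualAV Scheme.fppfPrecoverage A At φ)

include hφ in
theorem comp_lam_field (l : PC A.left) {T : Over (Spec (CommRingCat.of k))} (x : T ⟶ A) :
    x ≫ Φ φ A (theta l) = Φ φ T (th l (fst A T) (snd A T ≫ x)) ∧ PZ A T (th l (fst A T) (snd A T ≫ x)) := by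
  have h : th l (fst A T) (snd A T ≫ x) = ev (theta l) (A ◁ x) := by
    rw [← th_eq]
    congr 1
  rw [h]
  exact ⟨(Φ_nat hφ x (pz_theta_field l)).symm, pz_ev_left x (pz_theta_field l)⟩

variable [IsProper At.hom] [GeometricallyIntegral At.hom]

include hφ in
/-- The dimension of the dual is at least that of the variety. -/
theorem dim_le_dual {g d : ℕ} (hg : topologicalKrullDim A.left = g) (hd : topologicalKrullDim At.left = d) :
    g ≤ d := by
  haveI : IsCommMonObj A := isCommMonObj_of_av
  haveI : IsCommMonObj At := isCommMonObj_of_av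
  let Ω := AlgebraicClosure k
  let σ := GeomTate.σ k Ω
  let F := GeomTate.bc k Ω
  let A' := F.obj A
  let At' := F.obj At
  obtain ⟨L, hL⟩ := exists_isAmple A
  let l : PC A.left := pc L hL.1
  let lam : A ⟶ At := Φ φ A (theta l)
  let pA : A'.left ⟶ A.left := pullback.fst A.hom σ
  haveI : IsAffineHom σ := inferInstanceAs (IsAffineHom (Spec.map _))
  haveI : IsAffineHom pA := MorphismProperty.pullback_fst _ _ inferInstance
  have hL' : CohB1.IsAmple ((Scheme.Modules.pullback pA).obj L) := H11Ample.isAmple_pullback_of_isAffineHom pA hL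
  haveI : IsMonHom lam := H25Rig.isMonHom_of_one_hom _ (by
    show η[A] ≫ lam = η[At]
    rw [(comp_lam_field hφ l η[A]).1, show snd A (𝟙_ _) ≫ η[A] = (1 : A ⊗ 𝟙_ _ ⟶ A) by
      rw [one_eq, toUnit_unique (snd A (𝟙_ _)) (toUnit _)], th_one_right, Φ_zero hφ, Hom.one_def,
      toUnit_unique (toUnit _) (𝟙 _), Category.id_comp])
  let f : A' ⟶ At' := F.map lam
  let adj := Over.mapPullbackAdj σ
  let β : ∀ X, (X ⟶ A') → ((Over.map σ).obj X ⟶ A) := fun X a => (adj.homEquiv X A).symm a
  have hβm : ∀ X (a b : X ⟶ A'), β X (a * b) = β X a * β X b := fun X a b => by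
    have h : ∀ x y : (Over.map σ).obj X ⟶ A,
        adj.homEquiv X A (x * y) = adj.homEquiv X A x * adj.homEquiv X A y := fun x y => by
      rw [Adjunction.homEquiv_unit, Adjunction.homEquiv_unit, Adjunction.homEquiv_unit]
      exact (congrArg _ (map_mul (Functor.homMonoidHom F) x y)).trans (MonObj.comp_mul _ _ _)
    apply (adj.homEquiv X A).injective
    rw [h]
    simp only [β, Equiv.apply_symm_apply]
  have hβl : ∀ X (a : X ⟶ A'), (β X a).left = a.left ≫ pA := fun X a => by
    simp only [β, Adjunction.homEquiv_counit]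
    rw [Over.comp_left]
    rfl
  have hev : ∀ X (a : X ⟶ A'), ev (pullP pA l) a = ev l (β X a) := fun X a => by
    show pullP a.left (pullP pA l) = pullP (β X a).left l
    rw [hβl, pullP_pullP]
    rfl
  have hker : Set.Finite {x : pt1 Ω ⟶ A' | x ≫ f = 1} := by
    refine Set.Finite.subset (finite_fixing _ hL') fun x hx => ?_
    let T₀ := (Over.map σ).obj (𝟙_ (Over (Spec (CommRingCat.of Ω))))
    let x₀ : T₀ ⟶ A := β _ x
    have hx₀ : x₀ ≫ lam = 1 := by
      apply (adj.homEquiv _ At).injective
      have h1 : adj.homEquiv (𝟙_ (Over (Spec (CommRingCat.of Ω)))) At 1 = 1 := by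
        rw [Adjunction.homEquiv_unit]
        exact (congrArg _ (map_one (Functor.homMonoidHom F))).trans (MonObj.comp_one _)
      rw [Adjunction.homEquiv_naturality_right, h1]
      simp only [x₀, β, Equiv.apply_symm_apply]
      exact hx
    obtain ⟨h1, h2⟩ := comp_lam_field hφ l x₀
    haveI : Subsingleton T₀.left := inferInstanceAs (Subsingleton (PrimeSpectrum Ω))
    haveI : Nonempty T₀.left := inferInstanceAs (Nonempty (PrimeSpectrum Ω))
    have h3 : th l (fst A T₀) (snd A T₀ ≫ x₀) = 0 :=
      rig_eq hφ h2 pz_zero (eq_zero_of_subsingleton _) (eq_zero_of_subsingleton _)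
        ((h1.symm.trans hx₀).trans (Φ_zero hφ).symm)
    let A₁ := (Over.map σ).obj A'
    let s : A₁ ⟶ T₀ := (Over.map σ).map (toUnit A')
    let p : A₁ ⟶ A := β _ (𝟙 A')
    have h4 := congrArg (fun z => ev z (lift p s)) h3
    simp only [ev_th, lift_fst, lift_snd_assoc] at h4
    replace h4 : th l p (s ≫ x₀) = 0 := h4.trans (map_zero _)
    have hc : β _ (toUnit A' ≫ x) = s ≫ x₀ := adj.homEquiv_naturality_left_symm _ _
    have h5 : ev l (s ≫ x₀) = 0 := by
      rw [← ev_comp, show ev l x₀ = 0 from eq_zero_of_subsingleton _]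
      exact map_zero _
    have h6 : ev (pullP pA l) (𝟙 A' * (toUnit A' ≫ x)) = ev (pullP pA l) (𝟙 A') := by
      rw [hev, hev, hβm, hc]
      have h7 := h4
      rw [th, h5, sub_zero, sub_eq_zero] at h7
      exact h7
    show transl _ x = _
    rw [pullP_pc _ L hL.1]
    exact h6.trans (ev_self _)
  exact (isFinite_of_finite_pts f hker (GeomTate.dim_bc A hg) (GeomTate.dim_bc At hd)).2

end Groth.Agent.H25Poinc
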