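import Groth.Agent.LeadBC.ThickTriv
import Groth.Agent.H22Alg.GlobalFunctions

/-!
# Trivialising a family over an Artinian base by a section with small annihilator
-/

set_option autoImplicit false
set_option linter.style.haveILetI false
set_option linter.unusedSectionVars false
set_option backward.isDefEq.respectTransparency false
universe u

open CategoryTheory CategoryTheory.Limits AlgebraicGeometry Opposite TopologicalSpace IsLocalRing
open Groth.Agent Groth.Agent.H11Tilde Groth.Agent.H11Ample Groth.Agent.LeadFF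

noncomputable section

namespace Groth.Agent.H25Poinc

variable {A : Type u} [CommRing A] [IsLocalRing A] {X : Scheme.{u}} [X.Over (Spec (CommRingCat.of A))]
  {K : Type u} [Field K] [Algebra A K] (hK : Function.Surjective (algebraMap A K))
  {X₀ : Scheme.{u}} {q : X₀ ⟶ X} {g : X₀ ⟶ Spec (CommRingCat.of K)}
  (hsq : IsPullback q g (X ↘ Spec (CommRingCat.of A)) (Spec.map (CommRingCat.ofHom (algebraMap A K))))

include hK hsq in
/-- A family over an Artinian base with trivial integral closed fibre and a section not killed by a socle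
element is trivial. -/
theorem nonempty_iso_of_socle [IsIntegral X₀] [IsProper g] (hArt : ∀ x : PrimeSpectrum A, x.asIdeal = maximalIdeal A)
    {L : X.Modules} (hL : PicF.IsInvertible L)
    (τ : (Scheme.Modules.pullback q).obj L ≅ Coh.structureModule X₀) {ε : A} (hε : ∀ a ∈ maximalIdeal A, ε * a = 0)
    (σ : Γ(L, ⊤)) (hσ : scal (X ↘ Spec (CommRingCat.of A)) ⊤ ε • σ ≠ 0) :
    Nonempty (L ≅ Coh.structureModule X) := by
  let f := X ↘ Spec (CommRingCat.of A)
  let I := maximalIdeal A
  have hker : I ^ 1 = RingHom.ker (algebraMap A K) := by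
    rw [pow_one]; exact (eq_maximalIdeal (RingHom.ker_isMaximal_of_surjective (algebraMap A K) hK)).symm
  let e : (A ⧸ I ^ 1) ≃+* K := (Ideal.quotEquivOfEq hker).trans (RingHom.quotientKerEquivOfSurjective hK)
  have he : e.toRingHom.comp (Ideal.Quotient.mk (I ^ 1)) = algebraMap A K := RingHom.ext fun _ => rfl
  let j : Spec (CommRingCat.of K) ≅ Spec (CommRingCat.of (A ⧸ I ^ 1)) :=
    Scheme.Spec.mapIso e.toCommRingCatIso.op
  have hj : j.hom = Spec.map (CommRingCat.ofHom e.toRingHom) := rfl
  have hsq' : IsPullback q (g ≫ j.hom) f (Spec.map (CommRingCat.ofHom (Ideal.Quotient.mk (I ^ 1)))) := by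
    refine hsq.of_iso (Iso.refl _) (Iso.refl _) j (Iso.refl _) (by simp) (by simp) (by simp [f]) ?_
    rw [hj, Iso.refl_hom, Category.comp_id, ← Spec.map_comp, ← CommRingCat.ofHom_comp, he]
  let g₀ := OmegaSh.pullSect q L ⊤ σ
  have hsur : Set.range q = Set.univ := by
    rw [LeadBC.ThickTriv.range_eq hsq']
    refine Set.eq_univ_of_forall fun x => ?_
    rw [Set.mem_preimage, PrimeSpectrum.zeroLocus_pow I one_ne_zero, PrimeSpectrum.mem_zeroLocus]
    exact (hArt (f x)).ge
  let c : Γ(X₀, ⊤) := τ.hom.app ⊤ g₀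
  by_cases hc : c = 0
  · refine absurd ?_ hσ
    have hg0 : g₀ = 0 := by
      have := congrArg (τ.inv.app ⊤) (show τ.hom.app ⊤ g₀ = 0 from hc)
      rwa [map_zero, ← ConcreteCategory.comp_apply, ← Scheme.Modules.Hom.comp_app, τ.hom_inv_id] at this
    choose V e' hx he' using H11Ample.exists_gen hL
    choose W hW hxW hWle using fun x : X => exists_isAffineOpen_mem_and_subset (U := V x) (x := x) (hx x)
    have hle : ∀ x : X, W x ≤ V x := fun x => hWle x
    refine TopCat.Sheaf.eq_of_locally_eq' ⟨L.presheaf, L.isSheaf⟩ W ⊤ (fun _ => homOfLE le_top)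
      (fun x _ => Opens.mem_iSup.2 ⟨x, hxW x⟩) _ _ fun x => ?_
    refine Eq.trans ?_ (map_zero _).symm
    obtain ⟨p, hp⟩ := exists_coeff ((he' x).res (hle x)) (L.presheaf.map (homOfLE (le_top : W x ≤ ⊤)).op σ)
    have h1 := congrArg (OmegaSh.pullSect q L (W x)) hp
    rw [pullSect_res, show OmegaSh.pullSect q L ⊤ σ = 0 from hg0, map_zero, OmegaSh.pullSect_smul] at h1
    have hp0 : q.app (W x) p = 0 := ((((he' x).res (hle x))).pullSect q |>.bijective le_rfl).1 (by
      beta_reduce
      rw [H10Coh.mres_self, ← h1]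
      exact (zero_smul Γ(X₀, q ⁻¹ᵁ W x) _).symm)
    have hmem := (LeadBC.ThickTriv.mem_ker hsq' (hW x)).2 p hp0
    let J : Ideal Γ(X, W x) := LinearMap.ker (LinearMap.mulLeft Γ(X, W x) (scal f (W x) ε))
    have hεp : scal f (W x) ε * p = 0 := (Ideal.map_le_iff_le_comap (K := J)).2 (fun a ha => by
      show scal f (W x) ε * scal f (W x) a = 0
      rw [pow_one] at ha
      rw [← map_mul, hε a ha, map_zero]) hmem
    show L.presheaf.map (homOfLE le_top).op (scal f ⊤ ε • σ) = 0
    rw [Scheme.Modules.map_smul, LeadFF.map_scal, hp, smul_smul, hεp, zero_smul]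
  · obtain ⟨d, hd⟩ := (H22Alg.GlobalFunctions.isField_of_universallyClosed g).mul_inv_cancel hc
    have hgen₀ : IsGen ((Scheme.Modules.pullback q).obj L) g₀ := by
      have h1 : IsGen (Coh.structureModule X₀) (show Γ(Coh.structureModule X₀, ⊤) from c) := by
        have := H11Ample.isGen_res (isGen_one (⊤ : X₀.Opens)) le_rfl (IsUnit.of_mul_eq_one d hd)
        rw [H10Coh.mres_self] at this
        convert this using 1
        exact (mul_one c).symm
      have := isGen_map_iso τ.symm h1
      rwa [show τ.symm.hom.app ⊤ (show Γ(Coh.structureModule X₀, ⊤) from c) = g₀ by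
        show τ.inv.app ⊤ (τ.hom.app ⊤ g₀) = g₀
        rw [← ConcreteCategory.comp_apply, ← Scheme.Modules.Hom.comp_app, τ.hom_inv_id]
        rfl] at this
    refine LeadBC.TrivInv.nonempty_iso_of_gen_eq_top σ (top_le_iff.1 fun x _ => ?_)
    obtain ⟨y, rfl⟩ : x ∈ Set.range q := hsur ▸ Set.mem_univ x
    obtain ⟨U, e', hyU, he'⟩ := H11Ample.exists_gen hL (q y)
    obtain ⟨p, hp⟩ := exists_coeff he' (L.presheaf.map (homOfLE (le_top : U ≤ ⊤)).op σ)
    refine ((gen_inf_eq_basicOpen he' σ p hp).ge (show q y ∈ X.basicOpen p from ?_)).1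
    show y ∈ q ⁻¹ᵁ X.basicOpen p
    rw [Scheme.preimage_basicOpen]
    refine (bijective_smul_iff (he'.pullSect q) _ hyU).1 ?_
    rw [← OmegaSh.pullSect_smul, ← hp, pullSect_res, TopCat.Presheaf.germ_res_apply]
    exact hgen₀ y trivial

end Groth.Agent.H25Poinc
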