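import Groth.Agent.H25Dual.Bilinear
import Groth.Agent.H25Pic0.Apps
import Groth.Agent.H25AbCube.GeomTate
import Groth.Agent.H12Pic.PicCurve.EllipticGood

/-!
# The fibres of a Poincaré module
-/

set_option autoImplicit false
set_option linter.style.haveILetI false
set_option linter.unusedSectionVars false
set_option backward.isDefEq.respectTransparency false
set_option synthInstance.maxHeartbeats 400000
set_option maxHeartbeats 1600000
universe u

open CategoryTheory CategoryTheory.Limits MonoidalCategory CartesianMonoidalCategory MonObj AlgebraicGeometry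
open Groth.Agent Groth.Agent.H25AbCube Groth.Agent.H25Dual
open Groth.Agent.H25Theta (pb pT pC pI pO tI)

noncomputable section

namespace Groth.Agent.H25Poinc

attribute [local instance] Functor.grpObjObj

variable {k : Type u} [Field k] {A At : Over (Spec (CommRingCat.of k))} [GrpObj A] [IsProper A.hom]
  [GeometricallyIntegral A.hom] [GrpObj At] [IsProper At.hom] [GeometricallyIntegral At.hom]
  {φ : ∀ T : Over (Spec (CommRingCat.of k)), PicF.Cl (PicF.XT A.hom T) → (T ⟶ At)}
  (hφ : AbDual.IsDualAV Scheme.fppfPrecoverage A At φ)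
  (P : (A ⊗ At).left.Modules) (hP : PicF.IsInvertible P)
  (hξ : AbDual.IsPoincareCl A At φ (PicF.cl P))
  {Ω : Type u} [Field Ω] (t : Spec (CommRingCat.of Ω) ⟶ At.left)

/-- The point as an object over the ground field. -/
abbrev geoT : Over (Spec (CommRingCat.of k)) := Over.mk (t ≫ At.hom)

/-- The point as a morphism over the ground field. -/
abbrev geoPt : geoT t ⟶ At := Over.homMk t rfl

/-- The inclusion of the fibre. -/
abbrev geoIn : (A ⊗ geoT t).left ⟶ (A ⊗ At).left := (A ◁ geoPt t).left

/-- The fibre over a point. -/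
abbrev geoA (A : Over (Spec (CommRingCat.of k))) : Over (Spec (CommRingCat.of Ω)) :=
  (Over.pullback (t ≫ At.hom)).obj A

instance geoOver : (A ⊗ geoT t).left.Over (Spec (CommRingCat.of Ω)) := ⟨(snd A (geoT t)).left⟩

theorem isPullback_geoIn :
    IsPullback (geoIn (A := A) t) (snd A (geoT t)).left (snd A At).left t := by
  refine IsPullback.of_right (h₁₂ := (fst A At).left) (v₁₃ := A.hom) (h₂₂ := At.hom) ?_ ?_
    (IsPullback.of_hasPullback A.hom At.hom)
  · rw [← Over.comp_left, whiskerLeft_fst]
    exact IsPullback.of_hasPullback A.hom (t ≫ At.hom)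
  · exact congrArg CommaMorphism.left (whiskerLeft_snd A (geoPt t))

include hφ hP hξ in
/-- The fibre of the Poincaré module at the origin is trivial. -/
theorem pc_origin : ev (pc (X := (A ⊗ At).left) P hP) (A ◁ η[At]) = 0 := by
  have h := (poincare_facts hφ P hP hξ (T := A ⊗ 𝟙_ (Over (Spec (CommRingCat.of k))))).2.1
    (fst A (𝟙_ (Over (Spec (CommRingCat.of k)))))
  rwa [show lift (fst A (𝟙_ (Over (Spec (CommRingCat.of k))))) (1 : A ⊗ 𝟙_ _ ⟶ At) = A ◁ η[At] by
    apply CartesianMonoidalCategory.hom_ext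
    · simp
    · simp [one_eq, toUnit_unique (snd A (𝟙_ (Over (Spec (CommRingCat.of k))))) (toUnit _)]] at h

include hφ hP hξ in
/-- Away from the origin the fibre of the Poincaré module has no cohomology. -/
theorem subsingleton_HH_geo [IsAlgClosed Ω]
    (hne : ∀ s, t s ≠ (η[At] : 𝟙_ _ ⟶ At).left (IsLocalRing.closedPoint k)) (p : ℕ) :
    Subsingleton (Coh.HH (A ⊗ geoT t).left ((Scheme.Modules.pullback (geoIn t)).obj P) p) := by
  let B := geoA t A
  letI : GrpObj B := Functor.grpObjObj
  haveI : IsProper B.hom := MorphismProperty.pullback_snd (P := @IsProper) _ _ inferInstance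
  haveI : GeometricallyIntegral B.hom := MorphismProperty.pullback_snd (P := @GeometricallyIntegral) _ _ inferInstance
  have hM := H11Ample.isInvertible_pullback (geoIn (A := A) t) hP
  have hu : pc (X := (A ⊗ geoT t).left) _ hM = ev (pc (X := (A ⊗ At).left) P hP) (A ◁ geoPt t) :=
    pullP_pc _ P hP hM
  have hξz : PZ A At (pc (X := (A ⊗ At).left) P hP) := pz_pc hP hξ.1
  refine H25Pic0.subsingleton_HH (A := B) _ hM ?_ (fun h0 => ?_) p
  · refine H25Pic0.additive_of_algEquivZero (A := B) _ hM ?_
    obtain ⟨L, hLe, hL, hfib⟩ := hξ.1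
    obtain ⟨i⟩ := H12Pic.Sep.iso_of_cl_eq hLe
    haveI : Subsingleton ↥(Spec (CommRingCat.of Ω)) := inferInstanceAs (Subsingleton (PrimeSpectrum Ω))
    have halg := hfib (t (IsLocalRing.closedPoint Ω)) Ω t (Set.ext fun x =>
      ⟨fun ⟨s, hs⟩ => Set.mem_singleton_iff.2 (hs ▸ congrArg t (Subsingleton.elim s _)),
        fun hx => ⟨IsLocalRing.closedPoint Ω, (Set.mem_singleton_iff.1 hx).symm⟩⟩)
    let h : B.left ⟶ pullback (PicF.XTproj A.hom At) t :=
      pullback.lift (geoIn t) B.hom (isPullback_geoIn t).w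
    have h1 := algEquiv_pullback _ B.hom h (pullback.lift_snd _ _ _) halg
    letI : B.left.Over (Spec (CommRingCat.of Ω)) := ⟨B.hom⟩
    exact H12Pic.CurveFam.algEquiv_congr (pC h _ (pullback.lift_fst _ _ _) L ≪≫
      (Scheme.Modules.pullback (geoIn t)).mapIso i) h1
  · have h1 : Φ φ (geoT t) (ev (pc (X := (A ⊗ At).left) P hP) (A ◁ geoPt t)) = geoPt t := by
      rw [Φ_nat hφ (geoPt t) hξz, show Φ φ At (pc (X := (A ⊗ At).left) P hP) = 𝟙 At from
        (Φ_pc _ P hP).trans hξ.2.1, Category.comp_id]
    rw [← hu, show pc (X := (A ⊗ geoT t).left) _ hM = 0 from h0, Φ_zero hφ] at h1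
    refine hne (IsLocalRing.closedPoint Ω) ?_
    have h2 : t = (geoT t).hom ≫ (η[At] : 𝟙_ _ ⟶ At).left := congrArg CommaMorphism.left h1.symm
    rw [h2, Scheme.Hom.comp_apply]
    exact congrArg _ (Subsingleton.elim (α := PrimeSpectrum k) _ _)

include hφ hP hξ in
/-- Over the origin the fibre is the variety with the trivial module. -/
theorem nonempty_origin_iso :
    Nonempty ((Scheme.Modules.pullback (A ◁ η[At]).left).obj P ≅
      Coh.structureModule (A ⊗ 𝟙_ (Over (Spec (CommRingCat.of k)))).left) := by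
  refine (pc_eq_iff (H11Ample.isInvertible_pullback _ hP) H11Ample.isInvertible_structureModule).1 ?_
  rw [pc_one]
  exact (pullP_pc _ P hP (H11Ample.isInvertible_pullback _ hP)).trans (pc_origin hφ P hP hξ)

end Groth.Agent.H25Poinc
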