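import Groth.Agent.H25Poinc.ModelData
import Groth.Agent.H25Poinc.GeoFibre
import Groth.Agent.H25Poinc.DimDual
import Groth.Agent.H25Poinc.ArtinTriv
import Groth.Agent.LeadBC.Corep
import Groth.Agent.LeadBC.Gamma
import Groth.Agent.H19Grp.RegularSmooth
import Groth.Agent.H3CAlg.IntLocal
import Groth.Agent.H28Int.Curves
import Groth.Agent.H4TopDual.Vanish

/-!
# A universal module near the origin
-/

set_option autoImplicit false
set_option linter.style.haveILetI false
set_option linter.unusedSectionVars false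
set_option backward.isDefEq.respectTransparency false
set_option synthInstance.maxHeartbeats 400000
set_option maxHeartbeats 2000000
universe u

open CategoryTheory CategoryTheory.Limits MonoidalCategory CartesianMonoidalCategory MonObj AlgebraicGeometry
  IsLocalRing
open Groth.Agent Groth.Agent.H25AbCube Groth.Agent.H25Dual
open Groth.Agent.LeadBC Groth.Agent.H06FlatCx Groth.Agent.LeadFF
open Groth.Agent.H25Theta (pb pT pC pI pO tI)

noncomputable section

namespace Groth.Agent.H25Poinc

variable {k : Type u} [Field k] (A At : Over (Spec (CommRingCat.of k))) [GrpObj A] [IsProper A.hom]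
  [GeometricallyIntegral A.hom] [GrpObj At] [IsProper At.hom] [GeometricallyIntegral At.hom]

/-- The origin of the dual. -/
abbrev e0 : At.left := (η[At] : 𝟙_ _ ⟶ At).left (closedPoint k)

/-- The local ring at the origin. -/
abbrev R0 : Type u := At.left.presheaf.stalk (e0 At)

/-- The family over the local ring at the origin. -/
abbrev XR : Scheme.{u} := pullback (snd A At).left (At.left.fromSpecStalk (e0 At))

instance overXR : (XR A At).Over (Spec (CommRingCat.of (R0 At))) := ⟨pullback.snd _ _⟩

/-- The Poincaré module over the local ring at the origin. -/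
abbrev FR (P : (A ⊗ At).left.Modules) : (XR A At).Modules :=
  (Scheme.Modules.pullback (pullback.fst (snd A At).left (At.left.fromSpecStalk (e0 At)))).obj P

/-- What the origin of the dual is characterised by. -/
structure Universal (P : (A ⊗ At).left.Modules) (hP : PicF.IsInvertible P) : Prop where
  origin : ev (pc (X := (A ⊗ At).left) P hP) (lift (𝟙 A) 1) = 0
  geo : ∀ {Ω : Type u} [Field Ω] [IsAlgClosed Ω] (t : Spec (CommRingCat.of Ω) ⟶ At.left),
    (∀ s, t s ≠ e0 At) → ∀ p, Subsingleton (Coh.HH (A ⊗ geoT t).left ((Scheme.Modules.pullback (geoIn t)).obj P) p)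
  triv : ∀ {T : Over (Spec (CommRingCat.of k))} (x : T ⟶ At),
    ev (pc (X := (A ⊗ At).left) P hP) (A ◁ x) = 0 → x = 1

variable {A At} (P : (A ⊗ At).left.Modules) (hP : PicF.IsInvertible P) (hU₀ : Universal A At P hP) (g : ℕ)
  (hg : topologicalKrullDim A.left = g) {d : ℕ} (hd : topologicalKrullDim At.left = d) (hgd : g ≤ d)

include hU₀ hg hd hgd in
/-- The cohomology of a universal module over the local ring at the origin, and of the structure sheaf. -/
theorem local_factsU :
    (∀ p, p ≠ g → Subsingleton (Coh.HH (XR A At) (FR A At P) p)) ∧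
      Module.length (R0 At) (Coh.HH (XR A At) (FR A At P) g) = 1 ∧
      topologicalKrullDim At.left = g ∧
      (letI : A.left.Over (Spec (CommRingCat.of k)) := ⟨A.hom⟩
       ∀ p, Module.finrank k (Coh.HH A.left (Coh.structureModule A.left) p) = g.choose p) := by
  classical
  letI : A.left.Over (Spec (CommRingCat.of k)) := ⟨A.hom⟩
  haveI : IsProper (A.left ↘ Spec (CommRingCat.of k)) := ‹IsProper A.hom›
  haveI : Smooth A.hom := by
    haveI : GrpObj (Over.mk A.hom) := inferInstanceAs (GrpObj A)
    exact smooth_of_grpObj A.hom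
  haveI : Smooth (A.left ↘ Spec (CommRingCat.of k)) := ‹Smooth A.hom›
  haveI : GeometricallyConnected (A.left ↘ Spec (CommRingCat.of k)) :=
    geometricallyConnected_of_irreducible A.hom
  haveI : Smooth At.hom := by
    haveI : GrpObj (Over.mk At.hom) := inferInstanceAs (GrpObj At)
    exact smooth_of_grpObj At.hom
  haveI : IsIntegral A.left := GeometricallyIntegral.isIntegral_of_subsingleton A.hom
  haveI : IsIntegral At.left := GeometricallyIntegral.isIntegral_of_subsingleton At.hom
  haveI : IsLocallyNoetherian A.left := LocallyOfFiniteType.isLocallyNoetherian A.hom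
  haveI : IsLocallyNoetherian At.left := LocallyOfFiniteType.isLocallyNoetherian At.hom
  haveI : CompactSpace A.left := QuasiCompact.compactSpace_of_compactSpace A.hom
  haveI : IsNoetherian A.left := {}
  let R := R0 At
  let jR : Spec (CommRingCat.of R) ⟶ At.left := At.left.fromSpecStalk (e0 At)
  let η' : Spec (CommRingCat.of k) ⟶ At.left := (η[At] : 𝟙_ _ ⟶ At).left
  let ψ : CommRingCat.of R ⟶ CommRingCat.of k := Scheme.stalkClosedPointTo η'
  have hψ : Spec.map ψ ≫ jR = η' := Scheme.Spec_stalkClosedPointTo_fromSpecStalk η'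
  have hη : η' ≫ At.hom = 𝟙 _ := Over.w (η[At] : 𝟙_ _ ⟶ At)
  let s : CommRingCat.of k ⟶ CommRingCat.of R := Spec.preimage (jR ≫ At.hom)
  have hs : Spec.map s = jR ≫ At.hom := Spec.map_preimage _
  have hsψ : s ≫ ψ = 𝟙 _ := Spec.map_injective (by rw [Spec.map_comp, hs, reassoc_of% hψ, hη, Spec.map_id])
  letI : Algebra R k := ψ.hom.toAlgebra
  have hK : Function.Surjective (algebraMap R k) := fun c =>
    ⟨s.hom c, congr($(congrArg CommRingCat.Hom.hom hsψ) c)⟩
  have hclosed : IsClosed ({e0 At} : Set At.left) := by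
    haveI : IsClosedImmersion η' := by
      haveI : IsClosedImmersion (η' ≫ At.hom) := by rw [hη]; infer_instance
      exact IsClosedImmersion.of_comp η' At.hom
    haveI : Subsingleton ↥(Spec (CommRingCat.of k)) := inferInstanceAs (Subsingleton (PrimeSpectrum k))
    have := η'.isClosedEmbedding.isClosed_range
    rwa [show Set.range η' = {e0 At} from Set.eq_singleton_iff_unique_mem.2
      ⟨⟨_, rfl⟩, fun _ ⟨w, hw⟩ => hw ▸ congrArg η' (Subsingleton.elim w _)⟩] at this
  haveI : IsRegularLocalRing R := H19Grp.isRegularLocalRing_stalk_of_smooth At.hom (e0 At)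
  have hdimR : ringKrullDim R = d := by
    obtain ⟨d', hd', hdd⟩ := H3CAlg.IntLocal.ringKrullDim_stalk At.hom hd (e0 At) (a := 0) (by
      simpa using H28Int.Curves.cdim_closed hclosed)
    exact hd'.trans (by rw [show d' = d by omega])
  let X := XR A At
  let F := FR A At P
  let fR : X ⟶ (A ⊗ At).left := pullback.fst (snd A At).left jR
  haveI : IsProper (snd A At).left := MorphismProperty.pullback_snd (P := @IsProper) A.hom At.hom inferInstance
  haveI : Flat (snd A At).left := MorphismProperty.pullback_snd (P := @Flat) A.hom At.hom inferInstance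
  haveI : IsProper (X ↘ Spec (CommRingCat.of R)) := MorphismProperty.pullback_snd (P := @IsProper) _ _ inferInstance
  haveI : Flat (X ↘ Spec (CommRingCat.of R)) := MorphismProperty.pullback_snd (P := @Flat) _ _ inferInstance
  have hF : PicF.IsInvertible F := H11Ample.isInvertible_pullback fR hP
  have hFc := H11Ample.isCoh_of_isInvertible hF
  haveI : F.IsQuasicoherent := hFc.1
  obtain ⟨ι₀, _, U, hU, ⟨m⟩⟩ := exists_model R F hFc
    (H10Coh.SheafHom.isFlatOver_of_isFinLocFree _ F (H23Para.isFinLocFree_of_isInvertible hF))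
  -- the closed fibre
  let i₀ : A ⟶ A ⊗ At := lift (𝟙 A) 1
  have hone' : (1 : A ⟶ At).left = A.hom ≫ η' := one_left A
  have hi₀ : i₀.left ≫ (snd A At).left = A.hom ≫ η' := by rw [← Over.comp_left, lift_snd, hone']
  let q₀ : A.left ⟶ X := pullback.lift i₀.left (A.hom ≫ Spec.map ψ) (by rw [Category.assoc, hψ, hi₀])
  have hsq₀' : IsPullback i₀.left A.hom (snd A At).left η' := by
    refine IsPullback.of_right (h₁₂ := (fst A At).left) (v₁₃ := A.hom) (h₂₂ := At.hom) ?_ hi₀
      (IsPullback.of_hasPullback A.hom At.hom)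
    rw [← Over.comp_left, lift_fst, hη]
    exact IsPullback.id_horiz A.hom
  have hsq₀ : IsPullback q₀ (A.left ↘ Spec (CommRingCat.of k)) (X ↘ Spec (CommRingCat.of R))
      (Spec.map (CommRingCat.ofHom (algebraMap R k))) :=
    IsPullback.of_right (h₁₂ := fR) (v₁₃ := (snd A At).left) (h₂₂ := jR)
      (by rw [pullback.lift_fst, show Spec.map (CommRingCat.ofHom (algebraMap R k)) ≫ jR = η' from hψ]; exact hsq₀')
      (pullback.lift_snd _ _ _) (IsPullback.of_hasPullback _ _)
  have hM₀ := H11Ample.isInvertible_pullback i₀.left hP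
  obtain ⟨τ₀⟩ : Nonempty ((Scheme.Modules.pullback i₀.left).obj P ≅ Coh.structureModule A.left) := by
    refine (pc_eq_iff hM₀ H11Ample.isInvertible_structureModule).1 ?_
    rw [pc_one]
    exact (pullP_pc _ P hP hM₀).trans hU₀.origin
  let τ : qF q₀ F ≅ Coh.structureModule A.left :=
    pC q₀ fR (pullback.lift_fst _ _ _) P ≪≫ τ₀
  have hfr : ∀ p, Module.finrank k (Coh.HH A.left (qF q₀ F) p) =
      Module.finrank k (Coh.HH A.left (Coh.structureModule A.left) p) := fun p =>
    ((HMod k p).mapIso τ).toLinearEquiv.finrank_eq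
  have hfin : ∀ p, Module.Finite k (Coh.HH A.left (qF q₀ F) p) := fun p =>
    H10Coh.finite_HH_proper k A.left _ (H11Ample.isCoh_of_isInvertible (H11Ample.isInvertible_pullback q₀ hF)) p
  have hvan₀ : ∀ p, g < p → ∀ G : A.left.Modules, Subsingleton (Coh.HH A.left G p) := fun p hp G =>
    LeadVan.subsingleton_H_of_dim_le (X := A.left.toPresheafedSpace.carrier) g hg.le _ p hp
  have hgen : ∀ x : PrimeSpectrum R, x.asIdeal ≠ maximalIdeal R →
      ∃ (K : Type u) (_ : Field K) (_ : Algebra R K) (X' : Scheme.{u}) (_ : X'.Over (Spec (CommRingCat.of K)))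
        (q : X' ⟶ X),
        IsPullback q (X' ↘ Spec (CommRingCat.of K)) (X ↘ Spec (CommRingCat.of R))
          (Spec.map (CommRingCat.ofHom (algebraMap R K))) ∧
        RingHom.ker (algebraMap R K) = x.asIdeal ∧ ∀ p, Subsingleton (Coh.HH X' (qF q F) p) := by
    intro x hx
    let K := AlgebraicClosure x.asIdeal.ResidueField
    let α : R →+* K := (algebraMap x.asIdeal.ResidueField K).comp (algebraMap R x.asIdeal.ResidueField)
    letI : Algebra R K := α.toAlgebra
    let t : Spec (CommRingCat.of K) ⟶ At.left := Spec.map (CommRingCat.ofHom α) ≫ jR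
    have hker : RingHom.ker α = x.asIdeal := by
      exact (RingHom.ker_comp_of_injective _ (RingHom.injective _)).trans
        (Ideal.ker_algebraMap_residueField x.asIdeal)
    let X' := (A ⊗ geoT t).left
    let q : X' ⟶ X := pullback.lift (geoIn t) ((snd A (geoT t)).left ≫ Spec.map (CommRingCat.ofHom α))
      (by rw [Category.assoc]; exact (isPullback_geoIn t).w)
    refine ⟨K, inferInstance, inferInstance, X', geoOver t, q, ?_, hker, fun p => ?_⟩
    · exact IsPullback.of_right (h₁₂ := fR) (v₁₃ := (snd A At).left) (h₂₂ := jR)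
        (by rw [pullback.lift_fst]; exact isPullback_geoIn t)
        (pullback.lift_snd _ _ _) (IsPullback.of_hasPullback _ _)
    · refine H10Coh.subsingleton_HH_of_iso (pC q fR (pullback.lift_fst _ _ _) P).symm p ?_
      refine hU₀.geo t (fun w hw => hx ?_) p
      have h1 : (Spec.map (CommRingCat.ofHom α)) w = closedPoint R := by
        refine jR.isEmbedding.injective ?_
        rw [show jR (closedPoint R) = e0 At from Scheme.fromSpecStalk_closedPoint, ← Scheme.Hom.comp_apply]
        exact hw
      have h2 : (Spec.map (CommRingCat.ofHom α)) w = (x : PrimeSpectrum R) := by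
        refine PrimeSpectrum.ext ?_
        show Ideal.comap α w.asIdeal = x.asIdeal
        rw [show w.asIdeal = ⊥ from (Ideal.eq_bot_or_top _).resolve_right w.2.ne_top]
        exact hker
      exact (congrArg PrimeSpectrum.asIdeal (h2.symm.trans h1) : _)
  have hH0 : Module.finrank k (Coh.HH A.left (qF q₀ F) 0) = 1 :=
    (hfr 0).trans (H12Pic.PicCurve.finrank_h0_structure_geomConnected k A.left)
  obtain ⟨hdata, hone⟩ := data_of_fibres hU m d hgen hK hsq₀ (fun p hp => hvan₀ p (by omega) _) hH0
  obtain ⟨x, hx, hxp⟩ := exists_params R d hdimR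
  have hxr : RegUpTo x d := fun r hr a => by simpa using hxp 1 Nat.one_pos r hr a
  let Q : ModuleCat.{u} R := ModuleCat.of R (topR m.P (m.N : ℤ))
  have hvanN : ∀ M : ModuleCat.{u} R, Subsingleton ((CohIII.TFun m.P ((m.N : ℤ) + 1)).obj M) :=
    fun M => m.subsingleton_above (lt_add_one _) M
  haveI : Module.Finite R Q := finite_topR m.finite_free hvanN
  obtain ⟨c⟩ := nonempty_corep m.finite_free hvanN
  have hQ : ∀ M : ModuleCat.{u} R, Nonempty (Tf m.P (((m.N : ℤ) - d) + d) M ≃ₗ[R] (Q →ₗ[R] M)) := fun M => by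
    rw [sub_add_cancel]
    exact ⟨(c.app M).toLinearEquiv.trans (ModuleCat.homLinearEquiv (R := R) (S := R) (M := Q) (N := M))⟩
  obtain ⟨J, hJm, ⟨n, hn⟩, ⟨eQ⟩⟩ := hdata.exists_cyclic hx hxr Q hQ hone
  have hJ : maximalIdeal R ≤ J := by
    let R' := R ⧸ J
    have hJt : J ≠ ⊤ := fun h => (maximalIdeal.isMaximal R).ne_top (top_le_iff.1 (h ▸ hJm))
    haveI : Nontrivial R' := Ideal.Quotient.nontrivial_iff.2 hJt
    haveI : IsLocalRing R' := IsLocalRing.of_surjective' (Ideal.Quotient.mk J) Ideal.Quotient.mk_surjective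
    have hex : ∃ n, maximalIdeal R ^ n ≤ J := ⟨n, hn⟩
    let n₀ := Nat.find hex
    have hn₀ := Nat.find_spec hex
    have hn₁ : n₀ ≠ 0 := fun h => hJt (top_le_iff.1 (by
      have := hn₀
      rwa [show Nat.find hex = 0 from h, pow_zero, Ideal.one_eq_top] at this))
    obtain ⟨a, ha, haJ⟩ := SetLike.not_le_iff_exists.1 (Nat.find_min hex (Nat.sub_one_lt hn₁))
    have haε : ∀ b ∈ maximalIdeal R, a * b ∈ J := fun b hb => hn₀ (by
      rw [show Nat.find hex = n₀ - 1 + 1 by omega, pow_succ]
      exact Ideal.mul_mem_mul ha hb)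
    letI : Algebra R' k := (Ideal.Quotient.lift J (algebraMap R k) (fun b hb => by
      have hkerψ : RingHom.ker (algebraMap R k) = maximalIdeal R :=
        eq_maximalIdeal (RingHom.ker_isMaximal_of_surjective (algebraMap R k) hK)
      exact RingHom.mem_ker.1 (hkerψ.ge (hJm hb)))).toAlgebra
    have hK' : Function.Surjective (algebraMap R' k) := fun z => by
      obtain ⟨b, hb⟩ := hK z
      exact ⟨Ideal.Quotient.mk J b, hb⟩
    let v : Spec (CommRingCat.of R') ⟶ Spec (CommRingCat.of R) := Spec.map (CommRingCat.ofHom (Ideal.Quotient.mk J))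
    let T' : Over (Spec (CommRingCat.of k)) := Over.mk ((v ≫ jR) ≫ At.hom)
    let pt' : T' ⟶ At := Over.homMk (v ≫ jR) rfl
    let X' := (A ⊗ T').left
    letI : X'.Over (Spec (CommRingCat.of R')) := ⟨(snd A T').left⟩
    let j' : X' ⟶ (A ⊗ At).left := (A ◁ pt').left
    have hj' : IsPullback j' (snd A T').left (snd A At).left (v ≫ jR) := by
      refine IsPullback.of_right (h₁₂ := (fst A At).left) (v₁₃ := A.hom) (h₂₂ := At.hom) ?_
        (congrArg CommaMorphism.left (whiskerLeft_snd A pt')) (IsPullback.of_hasPullback A.hom At.hom)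
      rw [← Over.comp_left, whiskerLeft_fst]
      exact IsPullback.of_hasPullback A.hom ((v ≫ jR) ≫ At.hom)
    let q' : X' ⟶ X := pullback.lift j' ((snd A T').left ≫ v) (by rw [Category.assoc]; exact hj'.w)
    have hsq' : IsPullback q' (X' ↘ Spec (CommRingCat.of R')) (X ↘ Spec (CommRingCat.of R))
        (Spec.map (CommRingCat.ofHom (algebraMap R R'))) :=
      IsPullback.of_right (h₁₂ := fR) (v₁₃ := (snd A At).left) (h₂₂ := jR)
        (by rw [pullback.lift_fst]; exact hj') (pullback.lift_snd _ _ _) (IsPullback.of_hasPullback _ _)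
    haveI : IsProper (X' ↘ Spec (CommRingCat.of R')) :=
      MorphismProperty.of_isPullback hsq' inferInstance
    let L := qF q' F
    have hL : PicF.IsInvertible L := H11Ample.isInvertible_pullback q' hF
    -- a section not killed by the socle
    obtain ⟨e, he⟩ := Model.exists_bcEquiv R' hsq' hU m 0
    obtain ⟨eT⟩ := hQ (ModuleCat.of R R')
    rw [show ((m.N : ℤ) - d) + d = (m.N : ℤ) - (0 : ℕ) by simp] at eT
    let t₀ := eT.symm eQ.toLinearMap
    have ht₀ : a • t₀ ≠ 0 := fun h => by
      have h1 := congrArg eT h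
      rw [map_smul, map_zero, LinearEquiv.apply_symm_apply] at h1
      have h2 := LinearMap.congr_fun h1 (eQ.symm 1)
      change a • eQ (eQ.symm 1) = 0 at h2
      rw [LinearEquiv.apply_symm_apply, Algebra.smul_def, _root_.mul_one] at h2
      exact haJ (Ideal.Quotient.eq_zero_iff_mem.1 h2)
    have hmul : LeadBC.mulS R' R (algebraMap R R' a) = ModuleCat.ofHom (a • LinearMap.id : R' →ₗ[R] R') :=
      ModuleCat.hom_ext (LinearMap.ext fun z => (Algebra.smul_def a z).symm)
    have het : algebraMap R R' a • e t₀ ≠ 0 := by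
      intro h
      have h1 := he (algebraMap R R' a) t₀
      rw [hmul] at h1
      exact ht₀ (e.injective ((congrArg e (map_smul_id a _ _ t₀).symm).trans
        (h1.trans (h.trans (map_zero e).symm))))
    let σ := secTopEquiv L (e t₀)
    have hσ : scal (X' ↘ Spec (CommRingCat.of R')) ⊤ (algebraMap R R' a) • σ ≠ 0 := by
      rw [← secTopEquiv_smul]
      exact fun h => het ((secTopEquiv L).injective (h.trans (map_zero _).symm))
    -- the closed fibre
    let w' : Spec (CommRingCat.of k) ⟶ Spec (CommRingCat.of R') := Spec.map (CommRingCat.ofHom (algebraMap R' k))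
    have hw' : w' ≫ v = Spec.map ψ := by
      rw [← Spec.map_comp, ← CommRingCat.ofHom_comp]
      congr 1
    let q₀' : A.left ⟶ X' := hsq'.lift q₀ (A.hom ≫ w') (by
      rw [Category.assoc, show w' ≫ Spec.map (CommRingCat.ofHom (algebraMap R R')) = Spec.map ψ from hw']
      exact hsq₀.w)
    have hq₀' : q₀' ≫ q' = q₀ := hsq'.lift_fst _ _ _
    have hsq₀'' : IsPullback q₀' A.hom (X' ↘ Spec (CommRingCat.of R')) w' :=
      IsPullback.of_right (h₁₂ := q') (v₁₃ := X ↘ Spec (CommRingCat.of R)) (h₂₂ := v)
        (by rw [hq₀', hw']; exact hsq₀) (hsq'.lift_snd _ _ _) hsq'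
    have hArt : ∀ p : PrimeSpectrum R', p.asIdeal = maximalIdeal R' := fun p => by
      have h1 : maximalIdeal R ≤ p.asIdeal.comap (Ideal.Quotient.mk J) :=
        Ideal.IsPrime.le_of_pow_le (n := n₀) (hn₀.trans (fun b hb => by
          show Ideal.Quotient.mk J b ∈ p.asIdeal
          rw [Ideal.Quotient.eq_zero_iff_mem.2 hb]
          exact zero_mem _))
      refine le_antisymm (IsLocalRing.le_maximalIdeal p.2.ne_top) fun b hb => ?_
      obtain ⟨b, rfl⟩ := Ideal.Quotient.mk_surjective b
      refine h1 ?_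
      by_contra h
      exact (IsLocalRing.mem_maximalIdeal _).1 hb ((IsLocalRing.notMem_maximalIdeal.1 h).map _)
    obtain ⟨iso⟩ := nonempty_iso_of_socle hK' hsq₀'' hArt hL
      (pC q₀' q' hq₀' F ≪≫ τ) (ε := algebraMap R R' a) (fun b hb => by
      obtain ⟨b, rfl⟩ := Ideal.Quotient.mk_surjective b
      have hb' : b ∈ maximalIdeal R := by
        by_contra h
        exact (IsLocalRing.mem_maximalIdeal _).1 hb ((IsLocalRing.notMem_maximalIdeal.1 h).map _)
      rw [show algebraMap R R' a = Ideal.Quotient.mk J a from rfl, ← map_mul]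
      exact Ideal.Quotient.eq_zero_iff_mem.2 (haε b hb')) σ hσ
    have hM' := H11Ample.isInvertible_pullback j' hP
    have hpc : ev (pc (X := (A ⊗ At).left) P hP) (A ◁ pt') = 0 := by
      refine (pullP_pc _ P hP hM').symm.trans (Eq.trans ?_ pc_one)
      exact (pc_eq_iff hM' H11Ample.isInvertible_structureModule).2
        ⟨(pC q' fR (pullback.lift_fst _ _ _) P).symm ≪≫ iso⟩
    have h1 := (hU₀.triv pt' hpc).symm
    have h2 : v ≫ jR = ((v ≫ jR) ≫ At.hom) ≫ η' := (congrArg CommaMorphism.left h1.symm).trans (one_left T')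
    have h3 : v = v ≫ Spec.map s ≫ Spec.map ψ := by
      rw [← cancel_mono jR]
      refine h2.trans ?_
      simp only [Category.assoc, hψ, hs]
    rw [← Spec.map_comp, ← Spec.map_comp] at h3
    have h4 := congrArg CommRingCat.Hom.hom (Spec.map_injective h3)
    intro b hb
    have h5 := RingHom.congr_fun h4 b
    have hψb : ψ.hom b = 0 := by
      have hkerψ : RingHom.ker (algebraMap R k) = maximalIdeal R :=
        eq_maximalIdeal (RingHom.ker_isMaximal_of_surjective (algebraMap R k) hK)
      exact RingHom.mem_ker.1 (hkerψ.ge hb)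
    refine Ideal.Quotient.eq_zero_iff_mem.1 (h5.trans ?_)
    show Ideal.Quotient.mk J (s.hom (ψ.hom b)) = 0
    rw [hψb, map_zero, map_zero]
  have hQm : ∀ b ∈ maximalIdeal R, ∀ z : Q, b • z = 0 := fun b hb z => by
    refine eQ.injective ?_
    rw [map_smul, map_zero]
    obtain ⟨w, hw⟩ := Ideal.Quotient.mk_surjective (eQ z)
    rw [← hw]
    show Ideal.Quotient.mk J (b * w) = 0
    exact Ideal.Quotient.eq_zero_iff_mem.2 (Ideal.mul_mem_right _ _ (hJ hb))
  obtain ⟨hlen, hchoose⟩ := hdata.length hx hxp Q hQ hQm hone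
  have hcoh : ∀ p ≤ d, Module.finrank k (Coh.HH A.left (Coh.structureModule A.left) p) = d.choose p := fun p hp => by
    haveI := hfin p
    have h1 := hchoose (d - p)
    rw [show ((m.N : ℤ) - d) + ((d - p : ℕ) : ℤ) = (m.N : ℤ) - p by omega, length_T_residue hU m hK hsq₀ p,
      Nat.choose_symm hp, hfr p] at h1
    exact_mod_cast h1
  obtain rfl : g = d := by
    refine le_antisymm hgd (le_of_not_gt fun hlt => ?_)
    have h1 := hcoh d le_rfl
    haveI := hvan₀ d hlt (Coh.structureModule A.left)
    rw [Nat.choose_self, Module.finrank_zero_of_subsingleton] at h1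
    exact zero_ne_one h1
  -- transfer to cohomology over the local ring
  have hsqR : IsPullback (𝟙 X) (X ↘ Spec (CommRingCat.of R)) (X ↘ Spec (CommRingCat.of R))
      (Spec.map (CommRingCat.ofHom (algebraMap R R))) := by
    rw [show Spec.map (CommRingCat.ofHom (algebraMap R R)) = 𝟙 _ from Spec.map_id _]
    exact IsPullback.id_horiz _
  have hE : ∀ p : ℕ, Nonempty (Tf m.P ((m.N : ℤ) - p) (ModuleCat.of R R) ≃ₗ[R] Coh.HH X F p) := fun p => by
    obtain ⟨e, he⟩ := Model.exists_bcEquiv R hsqR hU m p
    have hlin : ∀ (b : R) t, e (b • t) = b • e t := fun b t => by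
      have hm : LeadBC.mulS R R b = ModuleCat.ofHom (b • LinearMap.id : R →ₗ[R] R) :=
        ModuleCat.hom_ext (LinearMap.ext fun z => (smul_eq_mul b z).symm)
      refine (congrArg e (map_smul_id b _ _ t).symm).trans ?_
      rw [← hm]
      exact he b t
    exact ⟨({ e with map_smul' := hlin } : Tf m.P ((m.N : ℤ) - p) (ModuleCat.of R R) ≃ₗ[R] _).trans
      ((HMod R p).mapIso ((Scheme.Modules.pullbackId X).app F)).toLinearEquiv⟩
  refine ⟨fun p hp => ?_, ?_, hd, fun p => ?_⟩
  · obtain ⟨e⟩ := hE p
    haveI := hdata.concentrated hx hxr ((m.N : ℤ) - p) (by omega)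
    exact e.symm.toEquiv.subsingleton
  · obtain ⟨e⟩ := hE g
    rw [← e.length_eq]
    exact hlen
  · rcases le_or_gt p g with hp | hp
    · exact hcoh p hp
    · haveI := hvan₀ p hp (Coh.structureModule A.left)
      rw [Nat.choose_eq_zero_of_lt hp]
      exact Module.finrank_zero_of_subsingleton

end Groth.Agent.H25Poinc
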