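import Groth.Agent.H4Depth.Regular
import Mathlib.RingTheory.Regular.RegularSequence

/-!
# Powers of a regular system of parameters form a regular sequence
-/

set_option autoImplicit false
universe u

open RingTheory.Sequence IsLocalRing

namespace Groth.Agent.H25Poinc

variable {R : Type u} [CommRing R] [IsLocalRing R] [IsNoetherianRing R]

theorem pow_last {l : List R} {c : R} (h : IsWeaklyRegular R (l ++ [c])) (n : ℕ) :
    IsWeaklyRegular R (l ++ [c ^ n]) := by
  rw [isWeaklyRegular_append_iff, isWeaklyRegular_singleton_iff] at h ⊢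
  exact ⟨h.1, h.2.pow n⟩

theorem weaklyRegular_map_pow (n : ℕ) (hn : 0 < n) : ∀ (l₂ l₁ : List R), (∀ r ∈ l₁ ++ l₂, r ∈ maximalIdeal R) →
    IsWeaklyRegular R (l₁ ++ l₂) → IsWeaklyRegular R (l₁ ++ l₂.map (· ^ n)) := by
  intro l₂
  induction l₂ with
  | nil => exact fun l₁ _ h => by simpa using h
  | cons c t ih =>
    intro l₁ hm h
    have hp : List.Perm (l₁ ++ c :: t) ((l₁ ++ t) ++ [c]) :=
      List.perm_middle.trans (List.perm_append_singleton c (l₁ ++ t)).symm
    have h1 := pow_last (isWeaklyRegular_of_perm_of_subset_maximalIdeal h hp hm) n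
    have hm' : ∀ r ∈ (l₁ ++ t) ++ [c ^ n], r ∈ maximalIdeal R := fun r hr => by
      simp only [List.mem_append, List.mem_singleton] at hr
      rcases hr with (hr | hr) | rfl
      · exact hm r (List.mem_append_left _ hr)
      · exact hm r (List.mem_append_right _ (List.mem_cons_of_mem _ hr))
      · exact Ideal.pow_mem_of_mem _ (hm c (List.mem_append_right _ (List.mem_cons_self ..))) n hn
    have hp' : List.Perm ((l₁ ++ t) ++ [c ^ n]) ((l₁ ++ [c ^ n]) ++ t) := by
      rw [List.append_assoc, List.append_assoc]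
      exact List.Perm.append_left _ (List.perm_append_comm)
    have h2 := ih (l₁ ++ [c ^ n]) (fun r hr => hm' r (hp'.mem_iff.2 hr))
      (isWeaklyRegular_of_perm_of_subset_maximalIdeal h1 hp' hm')
    simpa using h2

/-- The ideal of the first `r` terms of a sequence. -/
def headIdeal (y : ℕ → R) (r : ℕ) : Ideal R := Ideal.span (y '' Set.Iio r)

theorem headIdeal_succ (y : ℕ → R) (r : ℕ) : headIdeal y (r + 1) = headIdeal y r ⊔ Ideal.span {y r} := by
  have : Set.Iio (r + 1) = Set.Iio r ∪ {r} := by ext a; simp [Nat.lt_succ_iff, le_iff_lt_or_eq]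
  rw [headIdeal, headIdeal, this, Set.image_union, Set.image_singleton, Ideal.span_union]

theorem headIdeal_zero (y : ℕ → R) : headIdeal y 0 = ⊥ := by simp [headIdeal]

/-- A regular system of parameters, all of whose powers are regular sequences. -/
theorem exists_params (R : Type u) [CommRing R] [IsRegularLocalRing R] (g : ℕ) (hg : ringKrullDim R = g) :
    ∃ x : ℕ → R, headIdeal x g = maximalIdeal R ∧ ∀ n : ℕ, 0 < n → ∀ r < g, ∀ a : R,
      x r ^ n * a ∈ headIdeal (fun i => x i ^ n) r → a ∈ headIdeal (fun i => x i ^ n) r := by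
  obtain ⟨d, f, hd, hf⟩ := H4Depth.exists_regular_system_of_parameters R
  obtain rfl : d = g := by exact_mod_cast hd.symm.trans hg
  let x : ℕ → R := fun i => if h : i < d then f ⟨i, h⟩ else 0
  have hx : ∀ i : Fin d, x i = f i := fun i => by simp [x, i.2]
  have himg : x '' Set.Iio d = Set.range f := by
    ext a
    constructor
    · rintro ⟨i, hi, rfl⟩; exact ⟨⟨i, hi⟩, (hx ⟨i, hi⟩).symm⟩
    · rintro ⟨i, rfl⟩; exact ⟨i, i.2, hx i⟩
  refine ⟨x, by rw [headIdeal, himg, hf], fun n hn r hr a ha => ?_⟩
  let l := (List.range d).map x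
  have hl : l = List.ofFn f := by
    refine List.ext_getElem (by simp [l]) fun i h1 h2 => ?_
    have hi : i < d := by simpa [l] using h1
    simpa [l] using hx ⟨i, hi⟩
  have hreg : IsWeaklyRegular R l := hl ▸ (H4Depth.isRegular_ofFn_of_span_eq d hd f hf).1
  have hpow := weaklyRegular_map_pow n hn l [] (fun r hr => by
    rw [List.nil_append, hl, List.mem_ofFn] at hr
    obtain ⟨i, rfl⟩ := hr
    exact hf ▸ Ideal.subset_span ⟨i, rfl⟩) (by simpa using hreg)
  rw [List.nil_append, isWeaklyRegular_iff_Fin] at hpow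
  have h := hpow ⟨r, by simpa [l] using hr⟩
  have hI : Ideal.ofList ((l.map (· ^ n)).take r) • (⊤ : Submodule R R) = headIdeal (fun i => x i ^ n) r := by
    rw [Ideal.smul_eq_mul, Ideal.mul_top]
    refine congrArg Ideal.span (Set.ext fun z => ?_)
    simp only [l, List.map_map, ← List.map_take, List.take_range, Nat.min_eq_left hr.le, List.mem_map,
      List.mem_range, Function.comp_apply, Set.mem_setOf_eq, Set.mem_image, Set.mem_Iio]
  rw [← hI] at ha ⊢
  have hget : (l.map (· ^ n))[r]'(by simpa [l] using hr) = x r ^ n := by simp [l]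
  refine (Submodule.Quotient.mk_eq_zero _).1 (h (?_ : _ • Submodule.Quotient.mk a = _ • (0 : R ⧸ _)))
  rw [smul_zero, ← Submodule.Quotient.mk_smul, Submodule.Quotient.mk_eq_zero]
  show (l.map (· ^ n))[r]'(by simpa [l] using hr) * a ∈ _
  rw [hget]
  exact ha

end Groth.Agent.H25Poinc
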