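import Groth.Agent.H25Poinc.Homotopy
import Groth.Agent.H25Poinc.Regular

/-!
# Complexes over a regular local ring whose homology has finite length
-/

set_option autoImplicit false
set_option linter.style.haveILetI false
set_option linter.unusedSectionVars false
set_option backward.isDefEq.respectTransparency false
set_option maxHeartbeats 800000
universe u

open CategoryTheory CategoryTheory.Limits IsLocalRing
open Groth.Agent.H06FlatCx

noncomputable section

namespace Groth.Agent.H25Poinc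

variable {R : Type u} [CommRing R] [IsLocalRing R] [IsNoetherianRing R]

/-- The quotient by the first `r` terms of a sequence. -/
abbrev Mq (y : ℕ → R) (r : ℕ) : ModuleCat.{u} R := ModuleCat.of R (R ⧸ headIdeal y r)

/-- The sequence is regular up to `g`. -/
def RegUpTo (y : ℕ → R) (g : ℕ) : Prop := ∀ r < g, ∀ a : R, y r * a ∈ headIdeal y r → a ∈ headIdeal y r

variable (P : ChainComplex (ModuleCat.{u} R) ℤ)

/-- The homology with coefficients. -/
abbrev Tf (q : ℤ) (M : ModuleCat.{u} R) : ModuleCat.{u} R := (CohIII.TFun P q).obj M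

theorem finite_T_of_hfin (hfree : ∀ i, Module.Finite R (P.X i) ∧ Module.Free R (P.X i)) (q : ℤ) :
    Module.Finite R (Tf P q (ModuleCat.of R R)) := by
  haveI := (hfree q).1
  haveI : Module.Flat R (P.X (q - 1)) := by haveI := (hfree (q - 1)).2; infer_instance
  haveI : Module.Finite R (H0 P (q + 1) q (q - 1)) := finite_h0 P _ _ _
  exact Module.Finite.equiv (tSelfEquiv P (down_prev q) (down_next q))

variable {P} (hP : ∀ i, Module.Flat R (P.X i))

/-- Multiplication by the next term of the sequence. -/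
def mulSeq (y : ℕ → R) (r : ℕ) : ShortComplex (ModuleCat.{u} R) :=
  ShortComplex.mk (X₁ := Mq y r) (X₂ := Mq y r) (X₃ := Mq y (r + 1))
    (ModuleCat.ofHom (y r • LinearMap.id))
    (ModuleCat.ofHom (Submodule.factor (show headIdeal y r ≤ headIdeal y (r + 1) by
      rw [headIdeal_succ]; exact le_sup_left)))
    (by
      refine ModuleCat.hom_ext (LinearMap.ext fun t => ?_)
      obtain ⟨a, rfl⟩ := Submodule.Quotient.mk_surjective _ t
      change (Submodule.Quotient.mk (y r * a) : R ⧸ headIdeal y (r + 1)) = 0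
      rw [Submodule.Quotient.mk_eq_zero, headIdeal_succ]
      exact Ideal.mem_sup_right (Ideal.mem_span_singleton'.2 ⟨a, mul_comm _ _⟩))

theorem mulSeq_shortExact (y : ℕ → R) {g : ℕ} (hy : RegUpTo y g) (r : ℕ) (hr : r < g) :
    (mulSeq y r).ShortExact :=
  { exact := (ShortComplex.ShortExact.moduleCat_exact_iff_function_exact _).mpr (by
      intro t
      obtain ⟨b, rfl⟩ := Submodule.Quotient.mk_surjective (headIdeal y r) t
      change (Submodule.Quotient.mk b : R ⧸ headIdeal y (r + 1)) = 0 ↔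
        (Submodule.Quotient.mk b : R ⧸ headIdeal y r) ∈ Set.range fun s : R ⧸ headIdeal y r => y r • s
      constructor
      · intro h
        rw [Submodule.Quotient.mk_eq_zero, headIdeal_succ, Submodule.mem_sup] at h
        obtain ⟨u, hu, v, hv, rfl⟩ := h
        obtain ⟨a, rfl⟩ := Ideal.mem_span_singleton'.1 hv
        refine ⟨Submodule.Quotient.mk a, ?_⟩
        show y r • (Submodule.Quotient.mk a : R ⧸ headIdeal y r) = _
        rw [← Submodule.Quotient.mk_smul, Submodule.Quotient.eq, smul_eq_mul]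
        rw [show y r * a - (u + a * y r) = -u by ring]
        exact neg_mem hu
      · rintro ⟨s, hs⟩
        obtain ⟨a, rfl⟩ := Submodule.Quotient.mk_surjective _ s
        change (Submodule.Quotient.mk (y r * a) : R ⧸ headIdeal y r) = Submodule.Quotient.mk b at hs
        rw [Submodule.Quotient.eq] at hs
        rw [Submodule.Quotient.mk_eq_zero, headIdeal_succ, ← sub_sub_self (y r * a) b]
        exact sub_mem (Ideal.mem_sup_right (Ideal.mem_span_singleton'.2 ⟨a, mul_comm _ _⟩)) (Ideal.mem_sup_left hs))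
    mono_f := (ModuleCat.mono_iff_injective _).mpr (by
      show Function.Injective fun s : R ⧸ headIdeal y r => y r • s
      intro s t hst
      obtain ⟨a, rfl⟩ := Submodule.Quotient.mk_surjective _ s
      obtain ⟨b, rfl⟩ := Submodule.Quotient.mk_surjective _ t
      change (Submodule.Quotient.mk (y r * a) : R ⧸ headIdeal y r) = Submodule.Quotient.mk (y r * b) at hst
      rw [Submodule.Quotient.eq, ← mul_sub] at hst
      exact (Submodule.Quotient.eq _).2 (hy r hr _ hst))
    epi_g := (ModuleCat.epi_iff_surjective _).mpr (Submodule.factor_surjective (by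
      rw [headIdeal_succ]; exact le_sup_left)) }

include hP in
/-- The long exact sequence of a short exact sequence of coefficients. -/
theorem exists_les_of (S : ShortComplex (ModuleCat.{u} R)) (hS : S.ShortExact) (q : ℤ) :
    ∃ δ : Tf P q S.X₃ →ₗ[R] Tf P (q - 1) S.X₁,
      Function.Exact ((CohIII.TFun P q).map S.f).hom ((CohIII.TFun P q).map S.g).hom ∧
        Function.Exact ((CohIII.TFun P q).map S.g).hom δ ∧ Function.Exact δ ((CohIII.TFun P (q - 1)).map S.f).hom := by
  have h := tensorSeq_shortExact P hP S hS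
  exact ⟨(h.δ q (q - 1) (by simp)).hom,
    (ShortComplex.ShortExact.moduleCat_exact_iff_function_exact _).1 (h.homology_exact₂ q),
    (ShortComplex.ShortExact.moduleCat_exact_iff_function_exact _).1 (h.homology_exact₃ q (q - 1) (by simp)),
    (ShortComplex.ShortExact.moduleCat_exact_iff_function_exact _).1 (h.homology_exact₁ q (q - 1) (by simp))⟩

/-- A multiplication on the coefficients acts as the multiplication. -/
theorem map_smul_id (c : R) (M : ModuleCat.{u} R) (p : ℤ) (t : Tf P p M) :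
    ((CohIII.TFun P p).map (ModuleCat.ofHom (c • LinearMap.id : M →ₗ[R] M))).hom t = c • t := by
  obtain ⟨w, rfl⟩ := tcls_surjective P (down_next p) M t
  refine (map_tcls P (down_next p) _ w).trans ?_
  refine Eq.trans ?_ (map_smul (tcls P (down_next p) M) c w)
  refine congrArg _ (Subtype.ext ?_)
  simp [LinearMap.lTensor_smul]

include hP in
/-- The long exact sequence attached to multiplication by the next term. -/
theorem exists_les (y : ℕ → R) {g : ℕ} (hy : RegUpTo y g) (r : ℕ) (hr : r < g) :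
    ∃ f : ∀ q : ℤ, Tf P q (Mq y r) →ₗ[R] Tf P q (Mq y (r + 1)),
      ∃ δ : ∀ q : ℤ, Tf P q (Mq y (r + 1)) →ₗ[R] Tf P (q - 1) (Mq y r),
        ∀ q : ℤ, Function.Exact (fun t : Tf P q (Mq y r) => y r • t) (f q) ∧ Function.Exact (f q) (δ q) ∧
          Function.Exact (δ q) (fun t : Tf P (q - 1) (Mq y r) => y r • t) := by
  choose δ h using exists_les_of hP (mulSeq y r) (mulSeq_shortExact y hy r hr)
  have e : ∀ p, (((CohIII.TFun P p).map (mulSeq y r).f).hom : Tf P p (Mq y r) → Tf P p (Mq y r)) =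
      fun t => y r • t := fun p => funext (map_smul_id (y r) (Mq y r) p)
  refine ⟨fun q => ((CohIII.TFun P q).map (mulSeq y r).g).hom, δ, fun q => ?_⟩
  obtain ⟨h1, h2, h3⟩ := h q
  exact ⟨e q ▸ h1, h2, e (q - 1) ▸ h3⟩

/-- The coefficient `R` as the empty quotient. -/
theorem nonempty_Mq_zero (q : ℤ) (y : ℕ → R) : Nonempty (Tf P q (Mq y 0) ≃ₗ[R] Tf P q (ModuleCat.of R R)) :=
  ⟨((CohIII.TFun P q).mapIso
    ((Submodule.quotEquivOfEqBot _ (headIdeal_zero y)).toModuleIso)).toLinearEquiv⟩

variable (j₀ : ℤ) (g : ℕ)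

include hP in
/-- Vanishing outside the range of the sequence. -/
theorem subsingleton_of_zero (y : ℕ → R) (hy : RegUpTo y g)
    (h0 : ∀ q : ℤ, q ≠ j₀ → Subsingleton (Tf P q (ModuleCat.of R R))) :
    ∀ r ≤ g, ∀ q : ℤ, (q < j₀ ∨ j₀ + r < q) → Subsingleton (Tf P q (Mq y r)) := by
  intro r
  induction r with
  | zero =>
    intro _ q hq
    obtain ⟨e⟩ := nonempty_Mq_zero (P := P) q y
    haveI := h0 q (by push_cast at hq; omega)
    exact e.toEquiv.subsingleton
  | succ r ih =>
    intro hr q hq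
    obtain ⟨f, δ, h⟩ := exists_les hP y hy r hr
    haveI := ih (by omega) q (by push_cast at hq; omega)
    haveI := ih (by omega) (q - 1) (by push_cast at hq; omega)
    refine subsingleton_of_forall_eq 0 fun t => ?_
    obtain ⟨s, rfl⟩ := ((h q).2.1 t).1 (Subsingleton.elim _ _)
    rw [Subsingleton.elim s 0, map_zero]

include hP in
/-- Homology killed by a power stays killed by powers. -/
theorem exists_pow_kill (y : ℕ → R) (hy : RegUpTo y g) (J : Ideal R)
    (h0 : ∀ q : ℤ, ∃ n : ℕ, ∀ a ∈ J ^ n, ∀ t : Tf P q (ModuleCat.of R R), a • t = 0) :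
    ∀ r ≤ g, ∀ q : ℤ, ∃ n : ℕ, ∀ a ∈ J ^ n, ∀ t : Tf P q (Mq y r), a • t = 0 := by
  intro r
  induction r with
  | zero =>
    intro _ q
    obtain ⟨e⟩ := nonempty_Mq_zero (P := P) q y
    obtain ⟨n, hn⟩ := h0 q
    exact ⟨n, fun a ha t => e.injective (by rw [map_smul, map_zero, hn a ha])⟩
  | succ r ih =>
    intro hr q
    obtain ⟨f, δ, h⟩ := exists_les hP y hy r hr
    obtain ⟨m, hm⟩ := ih (by omega) q
    obtain ⟨n, hn⟩ := ih (by omega) (q - 1)
    refine ⟨m + n, fun a ha t => ?_⟩
    rw [pow_add] at ha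
    refine Submodule.mul_induction_on ha (fun b hb c hc => ?_) (fun b c hb hc => by rw [add_smul, hb, hc, add_zero])
    obtain ⟨s, hs⟩ := ((h q).2.1 (c • t)).1 (by rw [map_smul, hn c hc])
    rw [mul_smul, ← hs, ← map_smul, hm b hb, map_zero]

theorem exists_pow_eq_maximal {x : ℕ → R} (hx : headIdeal x g = maximalIdeal R) {r : ℕ} (hr : r < g) (n : ℕ) :
    x r ^ n ∈ maximalIdeal R ^ n := Ideal.pow_mem_pow (hx ▸ Ideal.subset_span ⟨r, hr, rfl⟩) n

include hP in
/-- The homology is concentrated in one degree. -/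
theorem subsingleton_of_residue {x : ℕ → R} (hx : headIdeal x g = maximalIdeal R) (hxr : RegUpTo x g)
    (hfin : ∀ q, Module.Finite R (Tf P q (ModuleCat.of R R)))
    (hkill : ∀ q : ℤ, ∃ n : ℕ, ∀ a ∈ maximalIdeal R ^ n, ∀ t : Tf P q (ModuleCat.of R R), a • t = 0)
    (htop : ∀ q : ℤ, j₀ + g < q → Subsingleton (Tf P q (Mq x g)))
    (hbot : ∀ q : ℤ, q < j₀ → Subsingleton (Tf P q (Mq x g))) :
    ∀ q : ℤ, q ≠ j₀ → Subsingleton (Tf P q (ModuleCat.of R R)) := by
  have hk := exists_pow_kill hP g x hxr (maximalIdeal R) hkill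
  have hfinr : ∀ r ≤ g, ∀ q, Module.Finite R (Tf P q (Mq x r)) := fun r => by
    induction r with
    | zero =>
      intro _ q
      obtain ⟨e⟩ := nonempty_Mq_zero (P := P) q x
      haveI := hfin q
      exact Module.Finite.equiv e.symm
    | succ r ih =>
      intro hr q
      obtain ⟨f, δ, h⟩ := exists_les hP x hxr r hr
      haveI := ih (by omega) q
      haveI := ih (by omega) (q - 1)
      exact finite_of_exact (f q) (δ q) (h q).2.1
  suffices H : ∀ (m r : ℕ), r + m = g → ∀ q : ℤ, (q < j₀ ∨ j₀ + r < q) → Subsingleton (Tf P q (Mq x r)) by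
    intro q hq
    obtain ⟨e⟩ := nonempty_Mq_zero (P := P) q x
    haveI := H g 0 (zero_add g) q (by push_cast; omega)
    exact e.symm.toEquiv.subsingleton
  intro m
  induction m with
  | zero =>
    rintro r hr q (hq | hq) <;> rw [add_zero] at hr <;> subst hr
    exacts [hbot q hq, htop q hq]
  | succ m ih =>
    intro r hr q hq
    have hrg : r < g := by omega
    obtain ⟨f, δ, h⟩ := exists_les hP x hxr r hrg
    have hx1 : x r ∈ maximalIdeal R := hx ▸ Ideal.subset_span ⟨r, hrg, rfl⟩
    rcases hq with hq | hq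
    · -- multiplication is surjective
      haveI := ih (r + 1) (by omega) q (Or.inl hq)
      haveI := hfinr r (by omega) q
      have hsur : ∀ t : Tf P q (Mq x r), ∃ s, x r • s = t := fun t => ((h q).1 t).1 (Subsingleton.elim _ _)
      have htop' : (⊤ : Submodule R (Tf P q (Mq x r))) ≤ maximalIdeal R • ⊤ := fun t _ => by
        obtain ⟨s, rfl⟩ := hsur t
        exact Submodule.smul_mem_smul hx1 trivial
      exact (Submodule.subsingleton_iff R).1 (subsingleton_of_bot_eq_top
        (Submodule.eq_bot_of_le_smul_of_le_jacobson_bot (maximalIdeal R) ⊤ Module.Finite.fg_top htop'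
          (IsLocalRing.maximalIdeal_le_jacobson _)).symm)
    · -- multiplication is injective
      haveI := ih (r + 1) (by omega) (q + 1) (Or.inr (by push_cast; omega))
      have hinj : ∀ t : Tf P q (Mq x r), x r • t = 0 → t = 0 := by
        obtain ⟨p, rfl⟩ : ∃ p, p - 1 = q := ⟨q + 1, by omega⟩
        intro t ht
        obtain ⟨s, rfl⟩ := ((h p).2.2 t).1 ht
        haveI : Subsingleton (Tf P p (Mq x (r + 1))) := by rwa [sub_add_cancel] at *
        rw [Subsingleton.elim s 0, map_zero]
      obtain ⟨n, hn⟩ := hk r (by omega) q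
      refine subsingleton_of_forall_eq 0 fun t => ?_
      suffices ∀ i : ℕ, x r ^ i • t = 0 → t = 0 from this n (hn _ (Ideal.pow_mem_pow hx1 n) t)
      intro i
      induction i with
      | zero => simp
      | succ i hi => exact fun h0 => hi (hinj _ (by rw [smul_smul, ← pow_succ', h0]))

include hP in
/-- If the sequence kills everything, the top degree computes the homology. -/
theorem nonempty_bottom (y : ℕ → R) (hy : RegUpTo y g)
    (h0 : ∀ q : ℤ, q ≠ j₀ → Subsingleton (Tf P q (ModuleCat.of R R)))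
    (hkill : ∀ r < g, ∀ q (M : ModuleCat.{u} R) (t : Tf P q M), y r • t = 0) :
    ∀ r ≤ g, Nonempty (Tf P (j₀ + r) (Mq y r) ≃ₗ[R] Tf P j₀ (ModuleCat.of R R)) := by
  intro r
  induction r with
  | zero =>
    intro _
    rw [Nat.cast_zero, add_zero]
    exact nonempty_Mq_zero j₀ y
  | succ r ih =>
    intro hr
    obtain ⟨e⟩ := ih (by omega)
    obtain ⟨f, δ, h⟩ := exists_les hP y hy r hr
    have hq : j₀ + ((r + 1 : ℕ) : ℤ) - 1 = j₀ + r := by push_cast; omega
    haveI := subsingleton_of_zero hP j₀ g y hy h0 r (by omega) (j₀ + ((r + 1 : ℕ) : ℤ)) (Or.inr (by push_cast; omega))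
    refine ⟨(LinearEquiv.ofBijective (δ (j₀ + ((r + 1 : ℕ) : ℤ))) ⟨?_, fun t => ?_⟩).trans
      ((eqToIso (congrArg (fun q => Tf P q (Mq y r)) hq)).toLinearEquiv.trans e)⟩
    · rw [← LinearMap.ker_eq_bot, LinearMap.ker_eq_bot']
      intro s hs
      obtain ⟨w, rfl⟩ := ((h _).2.1 s).1 hs
      rw [Subsingleton.elim w 0, map_zero]
    · exact ((h _).2.2 t).1 (hkill r hr _ _ t)

include hP in
/-- If the sequence kills everything, lengths follow the Pascal triangle. -/
theorem length_eq (y : ℕ → R) (hy : RegUpTo y g)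
    (h0 : ∀ q : ℤ, q ≠ j₀ → Subsingleton (Tf P q (ModuleCat.of R R)))
    (hkill : ∀ r < g, ∀ q (M : ModuleCat.{u} R) (t : Tf P q M), y r • t = 0) :
    ∀ r ≤ g, ∀ s : ℕ, Module.length R (Tf P (j₀ + s) (Mq y r)) =
      r.choose s * Module.length R (Tf P j₀ (ModuleCat.of R R)) := by
  intro r
  induction r with
  | zero =>
    intro _ s
    obtain ⟨e⟩ := nonempty_Mq_zero (P := P) (j₀ + s) y
    rw [e.length_eq]
    rcases Nat.eq_zero_or_pos s with rfl | hs
    · rw [Nat.cast_zero, add_zero, Nat.choose_zero_right, Nat.cast_one, one_mul]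
    · haveI := h0 (j₀ + s) (by omega)
      rw [Module.length_eq_zero_iff.2 inferInstance, Nat.choose_eq_zero_of_lt hs, Nat.cast_zero, zero_mul]
  | succ r ih =>
    intro hr s
    obtain ⟨f, δ, h⟩ := exists_les hP y hy r hr
    have hinj : Function.Injective (f (j₀ + s)) := by
      rw [← LinearMap.ker_eq_bot, LinearMap.ker_eq_bot']
      intro t ht
      obtain ⟨w, rfl⟩ := ((h _).1 t).1 ht
      exact hkill r hr _ _ w
    have hsur : Function.Surjective (δ (j₀ + s)) := fun t => ((h _).2.2 t).1 (hkill r hr _ _ t)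
    rw [Module.length_eq_add_of_exact (f (j₀ + s)) (δ (j₀ + s)) hinj hsur (h _).2.1, ih (by omega) s]
    rcases s with _ | s
    · have hs0 := subsingleton_of_zero hP j₀ g y hy h0 r (by omega) (j₀ + ((0 : ℕ) : ℤ) - 1)
        (Or.inl (by push_cast; omega))
      rw [Module.length_eq_zero_iff.2 hs0, add_zero, Nat.choose_zero_right, Nat.choose_zero_right]
    · rw [show j₀ + ((s + 1 : ℕ) : ℤ) - 1 = j₀ + (s : ℤ) by push_cast; omega, ih (by omega) s,
        Nat.choose_succ_succ, Nat.cast_add, add_mul, add_comm]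

variable (P) in
/-- What the model of a family with finite support provides. -/
structure Data (j₀ : ℤ) (g : ℕ) : Prop where
  free : ∀ i, Module.Finite R (P.X i) ∧ Module.Free R (P.X i)
  neg : ∀ i < 0, IsZero (P.X i)
  finLength : ∀ q : ℤ, ∃ n : ℕ, ∀ a ∈ maximalIdeal R ^ n, ∀ t : Tf P q (ModuleCat.of R R), a • t = 0
  top : ∀ (q : ℤ), j₀ + g < q → ∀ M : ModuleCat.{u} R, Subsingleton (Tf P q M)
  bot : ∀ q : ℤ, q < j₀ → Subsingleton (Tf P q (ModuleCat.of R (R ⧸ maximalIdeal R)))

theorem Data.flat (h : Data P j₀ g) (i : ℤ) : Module.Flat R (P.X i) := by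
  haveI := (h.free i).2; infer_instance

variable {j₀ g}

/-- Such a complex has homology in one degree only. -/
theorem Data.concentrated {P : ChainComplex (ModuleCat.{u} R) ℤ} (h : Data P j₀ g) {x : ℕ → R}
    (hx : headIdeal x g = maximalIdeal R) (hxr : RegUpTo x g) (q : ℤ) (hq : q ≠ j₀) :
    Subsingleton (Tf P q (ModuleCat.of R R)) := by
  let e : Mq x g ≅ ModuleCat.of R (R ⧸ maximalIdeal R) := (Submodule.quotEquivOfEq _ _ hx).toModuleIso
  refine subsingleton_of_residue (h.flat j₀ g) j₀ g hx hxr (finite_T_of_hfin P h.free) h.finLength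
    (fun q hq => h.top q hq _) (fun q hq => ?_) q hq
  haveI := h.bot q hq
  exact ((CohIII.TFun P q).mapIso e).toLinearEquiv.toEquiv.subsingleton

theorem Data.smul_eq_zero {P : ChainComplex (ModuleCat.{u} R) ℤ} (h : Data P j₀ g) {x : ℕ → R}
    (hx : headIdeal x g = maximalIdeal R) (hxr : RegUpTo x g) (a : R)
    (ha : ∀ t : Tf P j₀ (ModuleCat.of R R), a • t = 0) (q : ℤ) (M : ModuleCat.{u} R) (t : Tf P q M) : a • t = 0 :=
  smul_T_eq_zero P (fun i => by haveI := (h.free i).2; infer_instance) h.neg a j₀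
    (fun q hq => h.concentrated hx hxr q hq) ha q M t

/-- The module representing the top degree is cyclic with finite colength. -/
theorem Data.exists_cyclic {P : ChainComplex (ModuleCat.{u} R) ℤ} (h : Data P j₀ g) {x : ℕ → R}
    (hx : headIdeal x g = maximalIdeal R) (hxr : RegUpTo x g) (Q : ModuleCat.{u} R) [Module.Finite R Q]
    (hQ : ∀ M : ModuleCat.{u} R, Nonempty (Tf P (j₀ + g) M ≃ₗ[R] (Q →ₗ[R] M)))
    (hone : Module.length R (Tf P (j₀ + g) (ModuleCat.of R (R ⧸ maximalIdeal R))) = 1) :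
    ∃ J : Ideal R, J ≤ maximalIdeal R ∧ (∃ n : ℕ, maximalIdeal R ^ n ≤ J) ∧ Nonempty (Q ≃ₗ[R] R ⧸ J) := by
  obtain ⟨n, hn⟩ := h.finLength j₀
  obtain ⟨eQ⟩ := hQ Q
  have hann : ∀ a ∈ maximalIdeal R ^ n, ∀ z : Q, a • z = 0 := fun a ha z => by
    have h1 := h.smul_eq_zero hx hxr a (hn a ha) _ Q (eQ.symm LinearMap.id)
    have h2 := congrArg eQ h1
    rw [map_smul, LinearEquiv.apply_symm_apply, map_zero] at h2
    exact LinearMap.congr_fun h2 z
  let m := maximalIdeal R
  obtain ⟨ek⟩ := hQ (ModuleCat.of R (R ⧸ m))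
  rw [ek.length_eq] at hone
  have hQ0 : ¬ Subsingleton Q := fun hs => by
    haveI : Subsingleton (Q →ₗ[R] (R ⧸ m)) := ⟨fun a b => LinearMap.ext fun z => by rw [Subsingleton.elim z 0, map_zero, map_zero]⟩
    rw [Module.length_eq_zero_iff.2 this] at hone
    exact zero_ne_one hone
  let V := Q ⧸ m • (⊤ : Submodule R Q)
  let K := R ⧸ m
  letI : Field K := Ideal.Quotient.field m
  haveI : Module.Finite K V := Module.Finite.of_restrictScalars_finite R K V
  have hsimple : IsSimpleModule R (Q →ₗ[R] (R ⧸ m)) := Module.length_eq_one_iff.1 hone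
  obtain ⟨v, hv⟩ : ∃ v : V, Submodule.span R {v} = ⊤ := by
    rcases subsingleton_or_nontrivial V with hV | hV
    · exact ⟨0, Subsingleton.elim _ _⟩
    obtain ⟨v, hv⟩ := exists_ne (0 : V)
    refine ⟨v, eq_top_iff.2 fun w _ => ?_⟩
    by_contra hw
    have hw' : w ∉ Submodule.span K {v} := fun hh => hw (by
      obtain ⟨c, rfl⟩ := Submodule.mem_span_singleton.1 hh
      obtain ⟨b, rfl⟩ := Ideal.Quotient.mk_surjective c
      exact Submodule.mem_span_singleton.2 ⟨b, (algebraMap_smul K b v).symm⟩)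
    obtain ⟨φ, hφw, hφv⟩ := Submodule.exists_dual_map_eq_bot_of_notMem hw' inferInstance
    obtain ⟨ψ, hψ⟩ := (Submodule.exists_dual_map_eq_bot_of_notMem (p := (⊥ : Submodule K V)) (x := v) (by simpa using hv) inferInstance).imp fun f hf => hf.1
    let a : Q →ₗ[R] (R ⧸ m) := (φ.restrictScalars R) ∘ₗ Submodule.mkQ _
    let b : Q →ₗ[R] (R ⧸ m) := (ψ.restrictScalars R) ∘ₗ Submodule.mkQ _
    have hb : b ≠ 0 := fun h0 => hψ (by
      obtain ⟨z, hz⟩ := Submodule.mkQ_surjective _ v
      have := LinearMap.congr_fun h0 z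
      change ψ (Submodule.mkQ _ z) = 0 at this
      rwa [hz] at this)
    obtain ⟨c, hc⟩ := Submodule.mem_span_singleton.1
      ((IsSimpleModule.span_singleton_eq_top R hb).ge (Submodule.mem_top (x := a)))
    obtain ⟨z, hz⟩ := Submodule.mkQ_surjective _ v
    obtain ⟨z', hz'⟩ := Submodule.mkQ_surjective _ w
    have h1 := LinearMap.congr_fun hc z
    change c • ψ (Submodule.mkQ _ z) = φ (Submodule.mkQ _ z) at h1
    rw [hz] at h1
    have hφ0 : φ v = 0 := by
      have : φ v ∈ (Submodule.span K {v}).map φ := ⟨v, Submodule.mem_span_singleton_self v, rfl⟩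
      rwa [hφv, Submodule.mem_bot] at this
    rw [hφ0] at h1
    have hc0 : algebraMap R K c = 0 := by
      rw [← algebraMap_smul K c (ψ v), smul_eq_mul] at h1
      exact (mul_eq_zero.1 h1).resolve_right hψ
    have h2 := LinearMap.congr_fun hc z'
    change c • ψ (Submodule.mkQ _ z') = φ (Submodule.mkQ _ z') at h2
    rw [hz'] at h2
    rw [← algebraMap_smul K c (ψ w), hc0, zero_smul] at h2
    exact hφw h2.symm
  obtain ⟨z, rfl⟩ := Submodule.mkQ_surjective _ v
  have hz : Submodule.span R {z} = ⊤ := by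
    refine IsLocalRing.map_mkQ_eq_top.1 ?_
    rw [Submodule.map_span, Set.image_singleton]
    exact hv
  let ev : R →ₗ[R] Q := LinearMap.toSpanSingleton R Q z
  have hsur : Function.Surjective ev := fun w =>
    Submodule.mem_span_singleton.1 (hz.ge (Submodule.mem_top (x := w)))
  refine ⟨LinearMap.ker ev, IsLocalRing.le_maximalIdeal fun htop => hQ0 ?_,
    ⟨n, fun a ha => LinearMap.mem_ker.2 (hann a ha z)⟩, ⟨(ev.quotKerEquivOfSurjective hsur).symm⟩⟩
  refine subsingleton_of_forall_eq 0 fun w => ?_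
  obtain ⟨b, rfl⟩ := hsur w
  exact LinearMap.mem_ker.1 (htop.ge trivial)

/-- When the representing module is the residue field, the homology is the residue field and the fibre has
binomial lengths. -/
theorem Data.length {P : ChainComplex (ModuleCat.{u} R) ℤ} (h : Data P j₀ g) {x : ℕ → R}
    (hx : headIdeal x g = maximalIdeal R) (hxp : ∀ n, 0 < n → RegUpTo (fun i => x i ^ n) g)
    (Q : ModuleCat.{u} R) (hQ : ∀ M : ModuleCat.{u} R, Nonempty (Tf P (j₀ + g) M ≃ₗ[R] (Q →ₗ[R] M)))
    (hm : ∀ a ∈ maximalIdeal R, ∀ z : Q, a • z = 0)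
    (hone : Module.length R (Tf P (j₀ + g) (ModuleCat.of R (R ⧸ maximalIdeal R))) = 1) :
    Module.length R (Tf P j₀ (ModuleCat.of R R)) = 1 ∧
      ∀ s : ℕ, Module.length R (Tf P (j₀ + s) (ModuleCat.of R (R ⧸ maximalIdeal R))) = g.choose s := by
  have hxr : RegUpTo x g := by simpa using hxp 1 Nat.one_pos
  obtain ⟨n, hn⟩ := h.finLength j₀
  have hconc := fun q hq => h.concentrated hx hxr q hq
  have hkm : ∀ a ∈ maximalIdeal R, ∀ t : Tf P j₀ (ModuleCat.of R R), a • t = 0 := by
    let y : ℕ → R := fun i => x i ^ (n + 1)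
    obtain ⟨e⟩ := nonempty_bottom (h.flat j₀ g) j₀ g y (hxp _ n.succ_pos) hconc (fun r hr =>
      h.smul_eq_zero hx hxr _ (hn _ (Ideal.pow_le_pow_right n.le_succ (exists_pow_eq_maximal g hx hr _)))) g le_rfl
    obtain ⟨e'⟩ := hQ (Mq y g)
    intro a ha t
    refine (e.symm.trans e').injective ?_
    rw [map_smul, map_zero]
    exact LinearMap.ext fun z => by rw [LinearMap.smul_apply, ← map_smul, hm a ha z, map_zero, LinearMap.zero_apply]
  have hkill : ∀ r < g, ∀ q (M : ModuleCat.{u} R) (t : Tf P q M), x r • t = 0 := fun r hr =>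
    h.smul_eq_zero hx hxr _ (hkm _ (hx ▸ Ideal.subset_span ⟨r, hr, rfl⟩))
  have hl := length_eq (h.flat j₀ g) j₀ g x hxr hconc hkill g le_rfl
  have e : ∀ q, Tf P q (Mq x g) ≃ₗ[R] Tf P q (ModuleCat.of R (R ⧸ maximalIdeal R)) := fun q =>
    ((CohIII.TFun P q).mapIso (Submodule.quotEquivOfEq _ _ hx).toModuleIso).toLinearEquiv
  have h1 : Module.length R (Tf P j₀ (ModuleCat.of R R)) = 1 := by
    have h2 := hl g
    rw [(e _).length_eq, hone, Nat.choose_self, Nat.cast_one, one_mul] at h2
    exact h2.symm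
  refine ⟨h1, fun s => ?_⟩
  rw [← (e _).length_eq, hl s, h1, mul_one]

end Groth.Agent.H25Poinc
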