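import Groth.Agent.H25Poinc.Algebra
import Groth.Agent.LeadBC.Grauert

/-!
# The model of a family over a local base with fibres acyclic off the closed point
-/

set_option autoImplicit false
set_option linter.style.haveILetI false
set_option linter.unusedSectionVars false
set_option backward.isDefEq.respectTransparency false
set_option maxHeartbeats 1000000
universe u

open AlgebraicGeometry CategoryTheory CategoryTheory.Limits IsLocalRing
open Groth.Agent Groth.Agent.LeadBC Groth.Agent.H06FlatCx Groth.Agent.LeadFF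

noncomputable section

namespace Groth.Agent.H25Poinc

variable {R : Type u} [CommRing R] {X : Scheme.{u}} [X.Over (Spec (CommRingCat.of R))] {ι : Type u} [Finite ι]
  {U : ι → X.Opens} {F : X.Modules} [F.IsQuasicoherent] (hU : GoodCover U) (m : Model (A := R) X F U)

include hU in
/-- Vanishing after one field extension gives vanishing on the residue field of the prime. -/
theorem subsingleton_T_of_field {K : Type u} [Field K] [Algebra R K] {X' : Scheme.{u}}
    [X'.Over (Spec (CommRingCat.of K))] {q : X' ⟶ X}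
    (hsq : IsPullback q (X' ↘ Spec (CommRingCat.of K)) (X ↘ Spec (CommRingCat.of R))
      (Spec.map (CommRingCat.ofHom (algebraMap R K))))
    (x : PrimeSpectrum R) (hx : RingHom.ker (algebraMap R K) = x.asIdeal) (p : ℕ)
    (h : Subsingleton (Coh.HH X' (qF q F) p)) :
    Subsingleton (CohIII.T m.P ((m.N : ℤ) - p) (ModuleCat.of R x.asIdeal.ResidueField)) := by
  let L := x.asIdeal.ResidueField
  have h0 : CohIII.dRank m.P ((m.N : ℤ) - p) x = 0 :=
    (m.finrank_bc hU hsq x hx _ (Iso.refl _) p).symm.trans Module.finrank_zero_of_subsingleton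
  haveI := (m.finite_flat ((m.N : ℤ) - p)).1
  have h1 : hqRank L m.P ((m.N : ℤ) - p + 1) ((m.N : ℤ) - p) ((m.N : ℤ) - p - 1) = 0 :=
    (hqRank_eq m.P (down_prev _) (down_next _)).trans h0
  have h2 := Module.finrank_zero_iff.1 h1
  obtain ⟨e, -⟩ := exists_homQuot_equiv (B := L) m.P (down_prev ((m.N : ℤ) - p)) (down_next ((m.N : ℤ) - p))
  exact e.symm.toEquiv.subsingleton

variable [IsLocalRing R] [IsNoetherianRing R]

include hU in
/-- On the residue field the model computes the dimensions of the cohomology of the closed fibre. -/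
theorem length_T_residue {K : Type u} [Field K] [Algebra R K] (hK : Function.Surjective (algebraMap R K))
    {X₀ : Scheme.{u}} [X₀.Over (Spec (CommRingCat.of K))] {q₀ : X₀ ⟶ X}
    (hsq : IsPullback q₀ (X₀ ↘ Spec (CommRingCat.of K)) (X ↘ Spec (CommRingCat.of R))
      (Spec.map (CommRingCat.ofHom (algebraMap R K)))) (p : ℕ) [Module.Finite K (Coh.HH X₀ (qF q₀ F) p)] :
    Module.length R (Tf m.P ((m.N : ℤ) - p) (ModuleCat.of R (R ⧸ maximalIdeal R))) =
      (Module.finrank K (Coh.HH X₀ (qF q₀ F) p) : ℕ∞) := by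
  have hker : maximalIdeal R = RingHom.ker (Algebra.ofId R K) :=
    (eq_maximalIdeal (RingHom.ker_isMaximal_of_surjective (algebraMap R K) hK)).symm
  let eK : (R ⧸ maximalIdeal R) ≃ₗ[R] K := (Submodule.quotEquivOfEq _ _ hker).trans
    (Ideal.quotientKerAlgEquivOfSurjective (f := Algebra.ofId R K) hK).toLinearEquiv
  let eT : Tf m.P ((m.N : ℤ) - p) (ModuleCat.of R (R ⧸ maximalIdeal R)) ≃ₗ[R]
      Tf m.P ((m.N : ℤ) - p) (ModuleCat.of R K) :=
    ((CohIII.TFun m.P _).mapIso eK.toModuleIso).toLinearEquiv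
  obtain ⟨e, he⟩ := Model.exists_bcEquiv K hsq hU m p
  letI : Module R (Coh.HH X₀ (qF q₀ F) p) := Module.compHom _ (algebraMap R K)
  haveI : IsScalarTower R K (Coh.HH X₀ (qF q₀ F) p) := IsScalarTower.of_algebraMap_smul fun _ _ => rfl
  have hlin : ∀ (c : R) t, e (c • t) = c • e t := fun c t => by
    have hm : LeadBC.mulS K R (algebraMap R K c) = ModuleCat.ofHom (c • LinearMap.id : K →ₗ[R] K) :=
      ModuleCat.hom_ext (LinearMap.ext fun z => (Algebra.smul_def c z).symm)
    refine (congrArg e (map_smul_id c _ _ t).symm).trans ?_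
    rw [← hm]
    exact he (algebraMap R K c) t
  let E : CohIII.T m.P ((m.N : ℤ) - p) (ModuleCat.of R K) ≃ₗ[R] Coh.HH X₀ (qF q₀ F) p :=
    { e with map_smul' := hlin }
  refine (eT.trans E).length_eq.trans ?_
  rw [Module.length_eq_of_surjective (M := Coh.HH X₀ (qF q₀ F) p) hK, Module.length_eq_finrank]

include hU in
/-- The model has the shape wanted by the algebra, with a line in the top degree on the residue field. -/
theorem data_of_fibres (g : ℕ)
    (hgen : ∀ x : PrimeSpectrum R, x.asIdeal ≠ maximalIdeal R →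
      ∃ (K : Type u) (_ : Field K) (_ : Algebra R K) (X' : Scheme.{u}) (_ : X'.Over (Spec (CommRingCat.of K)))
        (q : X' ⟶ X),
        IsPullback q (X' ↘ Spec (CommRingCat.of K)) (X ↘ Spec (CommRingCat.of R))
          (Spec.map (CommRingCat.ofHom (algebraMap R K))) ∧
        RingHom.ker (algebraMap R K) = x.asIdeal ∧ ∀ p, Subsingleton (Coh.HH X' (qF q F) p))
    {K : Type u} [Field K] [Algebra R K] (hK : Function.Surjective (algebraMap R K))
    {X₀ : Scheme.{u}} [X₀.Over (Spec (CommRingCat.of K))] {q₀ : X₀ ⟶ X}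
    (hsq : IsPullback q₀ (X₀ ↘ Spec (CommRingCat.of K)) (X ↘ Spec (CommRingCat.of R))
      (Spec.map (CommRingCat.ofHom (algebraMap R K))))
    (htop : ∀ p, g < p → Subsingleton (Coh.HH X₀ (qF q₀ F) p))
    (hone : Module.finrank K (Coh.HH X₀ (qF q₀ F) 0) = 1) :
    Data m.P ((m.N : ℤ) - g) g ∧
      Module.length R (Tf m.P (((m.N : ℤ) - g) + g) (ModuleCat.of R (R ⧸ maximalIdeal R))) = 1 := by
  have hflat : ∀ i, Module.Flat R (m.P.X i) := fun i => by haveI := (m.finite_free i).2; infer_instance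
  have hker : maximalIdeal R = RingHom.ker (Algebra.ofId R K) :=
    (eq_maximalIdeal (RingHom.ker_isMaximal_of_surjective (algebraMap R K) hK)).symm
  let eK : (R ⧸ maximalIdeal R) ≃ₗ[R] K := (Submodule.quotEquivOfEq _ _ hker).trans
    (Ideal.quotientKerAlgEquivOfSurjective (f := Algebra.ofId R K) hK).toLinearEquiv
  let eT : ∀ q, Tf m.P q (ModuleCat.of R (R ⧸ maximalIdeal R)) ≃ₗ[R] Tf m.P q (ModuleCat.of R K) := fun q =>
    ((CohIII.TFun m.P q).mapIso eK.toModuleIso).toLinearEquiv
  refine ⟨⟨m.finite_free, m.isZero_neg, fun q => ?_, fun q hq M => m.subsingleton_above (by omega) M,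
    fun q hq => ?_⟩, ?_⟩
  · by_cases hqN : (m.N : ℤ) < q
    · exact ⟨0, fun a _ t => Subsingleton.elim (h := m.subsingleton_above hqN _) _ _⟩
    obtain ⟨p, rfl⟩ : ∃ p : ℕ, (m.N : ℤ) - p = q := ⟨((m.N : ℤ) - q).toNat, by omega⟩
    let H := H0 m.P ((m.N : ℤ) - p + 1) ((m.N : ℤ) - p) ((m.N : ℤ) - p - 1)
    haveI := (m.finite_free ((m.N : ℤ) - p)).1
    haveI : Module.Finite R H := finite_h0 m.P _ _ _
    have hrad : maximalIdeal R ≤ (Module.annihilator R H).radical := by
      rw [Ideal.radical_eq_sInf]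
      refine le_sInf fun J hJ => ?_
      by_contra hne
      have hx : J ≠ maximalIdeal R := fun e => hne e.ge
      obtain ⟨K', _, _, X', _, q', hsq', hker, hvan⟩ := hgen ⟨J, hJ.2⟩ hx
      obtain ⟨-, -, h3⟩ := local_of_dRank_zero m.P m.finite_flat _ _
        (subsingleton_T_of_field hU m hsq' ⟨J, hJ.2⟩ hker p (hvan p))
      obtain ⟨a, ha, hkill⟩ := exists_smul_h0_eq_zero m.P m.finite_flat _ _ h3
      exact ha (hJ.1 (Module.mem_annihilator.2 hkill))
    obtain ⟨n, hn⟩ := Ideal.exists_pow_le_of_le_radical_of_fg hrad (IsNoetherian.noetherian _)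
    haveI := hflat ((m.N : ℤ) - p - 1)
    refine ⟨n, fun a ha t => ?_⟩
    obtain ⟨w, rfl⟩ := (tSelfEquiv m.P (down_prev _) (down_next _)).surjective t
    rw [← map_smul, Module.mem_annihilator.1 (hn ha) w, map_zero]
  · obtain ⟨p, rfl⟩ : ∃ p : ℕ, (m.N : ℤ) - p = q := ⟨((m.N : ℤ) - q).toNat, by omega⟩
    obtain ⟨e, -⟩ := Model.exists_bcEquiv K hsq hU m p
    haveI := htop p (by omega)
    exact ((eT _).toEquiv.trans e.toEquiv).subsingleton
  · rw [show ((m.N : ℤ) - g) + g = (m.N : ℤ) - (0 : ℕ) by push_cast; ring]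
    haveI : Module.Finite K (Coh.HH X₀ (qF q₀ F) 0) := Module.finite_of_finrank_eq_succ hone
    rw [length_T_residue hU m hK hsq 0, hone, Nat.cast_one]

end Groth.Agent.H25Poinc
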