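import Groth.Agent.H25Poinc.FamilyU
import Groth.Agent.H25Poinc.ModelData
import Groth.Agent.H25Poinc.GeoFibre
import Groth.Agent.H25Poinc.DimDual
import Groth.Agent.H25Poinc.ArtinTriv
import Groth.Agent.LeadBC.Corep
import Groth.Agent.LeadBC.Gamma
import Groth.Agent.H19Grp.RegularSmooth
import Groth.Agent.H3CAlg.IntLocal
import Groth.Agent.H28Int.Curves
import Groth.Agent.H4TopDual.Vanish

/-!
# The Poincaré module near the origin of the dual
-/

set_option autoImplicit false
set_option linter.style.haveILetI false
set_option linter.unusedSectionVars false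
set_option backward.isDefEq.respectTransparency false
set_option synthInstance.maxHeartbeats 400000
set_option maxHeartbeats 2000000
universe u

open CategoryTheory CategoryTheory.Limits MonoidalCategory CartesianMonoidalCategory MonObj AlgebraicGeometry
  IsLocalRing
open Groth.Agent Groth.Agent.H25AbCube Groth.Agent.H25Dual
open Groth.Agent.LeadBC Groth.Agent.H06FlatCx Groth.Agent.LeadFF
open Groth.Agent.H25Theta (pb pT pC pI pO tI)

noncomputable section

namespace Groth.Agent.H25Poinc

variable {k : Type u} [Field k] {A At : Over (Spec (CommRingCat.of k))} [GrpObj A] [IsProper A.hom]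
  [GeometricallyIntegral A.hom] [GrpObj At] [IsProper At.hom] [GeometricallyIntegral At.hom]
  {φ : ∀ T : Over (Spec (CommRingCat.of k)), PicF.Cl (PicF.XT A.hom T) → (T ⟶ At)}
  (hφ : AbDual.IsDualAV Scheme.fppfPrecoverage A At φ) (P : (A ⊗ At).left.Modules) (hP : PicF.IsInvertible P)
  (hξ : AbDual.IsPoincareCl A At φ (PicF.cl P)) (g : ℕ) (hg : topologicalKrullDim A.left = g)

include hφ hP hξ in
/-- The Poincaré module is universal at the origin. -/
theorem universal : Universal A At P hP where
  origin := (poincare_facts hφ P hP hξ (T := A)).2.1 (𝟙 A)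
  geo t ht p := subsingleton_HH_geo hφ P hP hξ t ht p
  triv x hx := by
    have h1 := Φ_nat hφ x (pz_pc hP hξ.1)
    rw [hx, Φ_zero hφ, show Φ φ At (pc (X := (A ⊗ At).left) P hP) = 𝟙 At from
      (Φ_pc _ P hP).trans hξ.2.1, Category.comp_id] at h1
    exact h1.symm

include hφ hP hξ hg in
/-- The cohomology of the Poincaré module over the local ring at the origin, and of the structure sheaf. -/
theorem local_facts :
    (∀ p, p ≠ g → Subsingleton (Coh.HH (XR A At) (FR A At P) p)) ∧
      Module.length (R0 At) (Coh.HH (XR A At) (FR A At P) g) = 1 ∧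
      topologicalKrullDim At.left = g ∧
      (letI : A.left.Over (Spec (CommRingCat.of k)) := ⟨A.hom⟩
       ∀ p, Module.finrank k (Coh.HH A.left (Coh.structureModule A.left) p) = g.choose p) := by
  haveI : IsIntegral At.left := GeometricallyIntegral.isIntegral_of_subsingleton At.hom
  obtain ⟨d, hd⟩ := H25Grp.exists_nat_dim At.hom
  exact local_factsU P hP (universal hφ P hP hξ) g hg hd (dim_le_dual hφ hg hd)

end Groth.Agent.H25Poinc
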