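import Groth.Agent.H06FlatCx.GenericRank

/-!
# An element killing the only homology kills all homology with coefficients
-/

set_option autoImplicit false
set_option linter.style.haveILetI false
set_option linter.unusedSectionVars false
set_option backward.isDefEq.respectTransparency false
universe u

open CategoryTheory CategoryTheory.Limits
open Groth.Agent.H06FlatCx
open scoped TensorProduct

noncomputable section

namespace Groth.Agent.H25Poinc

variable {A : Type u} [CommRing A] (P : ChainComplex (ModuleCat.{u} A) ℤ)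

/-- The difference of a multiple of the identity and the composite with the differential. -/
def defect (c : A) (h : ∀ j : ℤ, P.X j →ₗ[A] P.X (j + 1)) (j : ℤ) : P.X (j + 1) →ₗ[A] P.X (j + 1) :=
  c • LinearMap.id - h j ∘ₗ (P.d (j + 1) j).hom

/-- The homotopy identity at the degree `j + 1`. -/
def NullAt (c : A) (h : ∀ j : ℤ, P.X j →ₗ[A] P.X (j + 1)) (j : ℤ) : Prop :=
  (P.d (j + 1 + 1) (j + 1)).hom ∘ₗ h (j + 1) = defect P c h j

theorem d_d_apply (i j l : ℤ) (v : P.X i) : (P.d j l).hom ((P.d i j).hom v) = 0 :=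
  congr($(congrArg ModuleCat.Hom.hom (P.d_comp_d i j l)) v)

/-- With the identity one degree lower, the defect takes values in the cycles. -/
theorem d_defect (c : A) (h : ∀ j : ℤ, P.X j →ₗ[A] P.X (j + 1)) (j : ℤ) (hj : NullAt P c h j)
    (v : P.X (j + 1 + 1)) : (P.d (j + 1 + 1) (j + 1)).hom (defect P c h (j + 1) v) = 0 := by
  have h1 := LinearMap.congr_fun hj ((P.d (j + 1 + 1) (j + 1)).hom v)
  simp only [LinearMap.comp_apply, defect, LinearMap.sub_apply, LinearMap.smul_apply, LinearMap.id_apply,
    d_d_apply P (j + 1 + 1) (j + 1) j, map_zero, sub_zero] at h1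
  simp only [defect, LinearMap.sub_apply, LinearMap.smul_apply, LinearMap.id_apply, LinearMap.comp_apply,
    map_sub, map_smul, h1, sub_self]

variable (hproj : ∀ i, Module.Projective A (P.X i)) (hneg : ∀ i < 0, IsZero (P.X i))

include hproj in
/-- Extending a homotopy by one degree. -/
theorem exists_step (c : A) (h : ∀ j : ℤ, P.X j →ₗ[A] P.X (j + 1)) (n : ℤ) (hn : ∀ j < n, NullAt P c h j)
    (hr : LinearMap.range (defect P c h n) ≤ LinearMap.range (P.d (n + 1 + 1) (n + 1)).hom) :
    ∃ h' : ∀ j : ℤ, P.X j →ₗ[A] P.X (j + 1), ∀ j < n + 1, NullAt P c h' j := by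
  classical
  let D := (P.d (n + 1 + 1) (n + 1)).hom
  haveI := hproj (n + 1)
  obtain ⟨l, hl⟩ := Module.projective_lifting_property D.rangeRestrict
    ((defect P c h n).codRestrict (LinearMap.range D) fun v => hr (LinearMap.mem_range_self _ v))
    D.surjective_rangeRestrict
  refine ⟨Function.update h (n + 1) l, fun j hj => ?_⟩
  rcases lt_or_eq_of_le (Int.lt_add_one_iff.1 hj) with hjn | rfl
  · rw [NullAt, defect, Function.update_of_ne (by omega), Function.update_of_ne (by omega)]
    exact hn j hjn
  · rw [NullAt, defect, Function.update_self, Function.update_of_ne (by omega)]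
    exact LinearMap.ext fun v => congrArg Subtype.val (LinearMap.congr_fun hl v)

include hproj hneg in
/-- A complex of projectives, bounded below and exact outside one degree, has a null homotopy of every
multiplication which kills the remaining homology. -/
theorem exists_null (c : A) (T : ℤ)
    (hex : ∀ j : ℤ, j + 1 ≠ T → ∀ z : P.X (j + 1), (P.d (j + 1) j).hom z = 0 →
      z ∈ LinearMap.range (P.d (j + 1 + 1) (j + 1)).hom)
    (hT : ∀ j : ℤ, j + 1 = T → ∀ z : P.X (j + 1), (P.d (j + 1) j).hom z = 0 →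
      c • z ∈ LinearMap.range (P.d (j + 1 + 1) (j + 1)).hom) :
    ∀ n : ℕ, ∃ h : ∀ j : ℤ, P.X j →ₗ[A] P.X (j + 1), ∀ j : ℤ, j < (n : ℤ) - 1 → NullAt P c h j := by
  have hbase : ∀ (c : A) (h : ∀ j : ℤ, P.X j →ₗ[A] P.X (j + 1)) (j : ℤ), j < -1 → NullAt P c h j := fun c h j hj => by
    haveI := ModuleCat.subsingleton_of_isZero (hneg (j + 1) (by omega))
    exact LinearMap.ext fun v => by rw [Subsingleton.elim v 0, map_zero, map_zero]
  have hcyc : ∀ (c : A) (h : ∀ j : ℤ, P.X j →ₗ[A] P.X (j + 1)) (n : ℤ), (∀ j < n, NullAt P c h j) →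
      ∀ v, (P.d (n + 1) n).hom (defect P c h n v) = 0 := fun c h n hn v => by
    obtain ⟨j, rfl⟩ : ∃ j, j + 1 = n := ⟨n - 1, by omega⟩
    exact d_defect P c h j (hn j (lt_add_one j)) v
  -- a contraction below `T`
  have hone : ∀ n : ℕ, (n : ℤ) ≤ T → ∃ s : ∀ j : ℤ, P.X j →ₗ[A] P.X (j + 1),
      ∀ j : ℤ, j < (n : ℤ) - 1 → NullAt P 1 s j := by
    intro n
    induction n with
    | zero => exact fun _ => ⟨fun _ => 0, fun j hj => hbase 1 _ j (by simpa using hj)⟩
    | succ n ih =>
      intro hnT
      obtain ⟨s, hs⟩ := ih (by push_cast at hnT; omega)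
      obtain ⟨s', hs'⟩ := exists_step P hproj 1 s ((n : ℤ) - 1) hs (by
        rintro _ ⟨v, rfl⟩
        exact hex _ (by push_cast at hnT; omega) _ (hcyc 1 s _ hs v))
      exact ⟨s', fun j hj => hs' j (by push_cast at hj; omega)⟩
  intro n
  induction n with
  | zero => exact ⟨fun _ => 0, fun j hj => hbase c _ j (by simpa using hj)⟩
  | succ n ih =>
    by_cases hnT : (n : ℤ) = T
    · obtain ⟨s, hs⟩ := hone n hnT.le
      have hcs : ∀ j, defect P c (fun j => c • s j) j = c • defect P 1 s j := fun j => by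
        refine LinearMap.ext fun v => ?_
        simp only [defect, LinearMap.sub_apply, LinearMap.smul_apply, LinearMap.id_apply, LinearMap.comp_apply,
          one_smul, smul_sub]
      obtain ⟨h', hh'⟩ := exists_step P hproj c (fun j => c • s j) ((n : ℤ) - 1)
        (fun j hj => by rw [NullAt, LinearMap.comp_smul, hs j hj, hcs]) (by
          rintro _ ⟨v, rfl⟩
          rw [hcs, LinearMap.smul_apply]
          exact hT _ (by omega) _ (hcyc 1 s _ hs v))
      exact ⟨h', fun j hj => hh' j (by push_cast at hj; omega)⟩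
    · obtain ⟨h, hh⟩ := ih
      obtain ⟨h', hh'⟩ := exists_step P hproj c h ((n : ℤ) - 1) hh (by
        rintro _ ⟨v, rfl⟩
        exact hex _ (by omega) _ (hcyc c h _ hh v))
      exact ⟨h', fun j hj => hh' j (by push_cast at hj; omega)⟩

include hproj hneg in
/-- The multiplication then kills all homology with coefficients. -/
theorem smul_T_eq_zero (c : A) (T : ℤ)
    (hex : ∀ j : ℤ, j ≠ T → Subsingleton ((CohIII.TFun P j).obj (ModuleCat.of A A)))
    (hT : ∀ t : (CohIII.TFun P T).obj (ModuleCat.of A A), c • t = 0)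
    (q : ℤ) (M : ModuleCat.{u} A) (t : (CohIII.TFun P q).obj M) : c • t = 0 := by
  rcases lt_or_ge q 0 with hq | hq
  · haveI := subsingleton_TFun_of_lt P 0 hneg q hq M
    exact Subsingleton.elim (α := (CohIII.TFun P q).obj M) _ _
  have hH : ∀ j : ℤ, ∀ z : P.X (j + 1), (P.d (j + 1) j).hom z = 0 →
      c • z ∈ LinearMap.range (P.d (j + 1 + 1) (j + 1)).hom ∧
        (j + 1 ≠ T → z ∈ LinearMap.range (P.d (j + 1 + 1) (j + 1)).hom) := by
    intro j z hz
    let e := tSelfEquiv P (c := ComplexShape.down ℤ) (i := j + 1 + 1) (j := j + 1) (k := j)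
      (down_prev _) ((down_next _).trans (by omega))
    let u : H0 P (j + 1 + 1) (j + 1) j := Submodule.Quotient.mk ⟨z, LinearMap.mem_ker.2 hz⟩
    have hmem : ∀ (b : A), b • u = 0 → b • z ∈ LinearMap.range (P.d (j + 1 + 1) (j + 1)).hom := fun b hb => by
      obtain ⟨w, hw⟩ := (Submodule.Quotient.mk_eq_zero _).1 ((Submodule.Quotient.mk_smul _ b _).trans hb)
      exact ⟨w, congrArg Subtype.val hw⟩
    constructor
    · refine hmem c ?_
      by_cases hj : j + 1 = T
      · subst hj
        exact e.injective (by rw [map_smul, map_zero]; exact hT _)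
      · haveI := hex _ hj
        exact e.injective (Subsingleton.elim _ _)
    · intro hj
      haveI := hex _ hj
      have := hmem 1 (by rw [one_smul]; exact e.injective (Subsingleton.elim _ _))
      rwa [one_smul] at this
  obtain ⟨h, hh⟩ := exists_null P hproj hneg c T (fun j hj z hz => (hH j z hz).2 hj)
    (fun j _ z hz => (hH j z hz).1) (q.toNat + 2)
  obtain ⟨j, rfl⟩ : ∃ j, j + 1 = q := ⟨q - 1, by omega⟩
  have hjk : (ComplexShape.down ℤ).next (j + 1) = j := (down_next _).trans (by omega)
  obtain ⟨⟨z, hz⟩, rfl⟩ := tcls_surjective P hjk M t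
  rw [← map_smul, tcls_eq_zero_iff P (down_prev (j + 1)) hjk]
  refine ⟨(h (j + 1)).rTensor M z, ?_⟩
  have e := congrArg (fun f => LinearMap.rTensor (M : Type u) f z) (hh j (by omega))
  simp only [defect, LinearMap.rTensor_sub, LinearMap.rTensor_smul, LinearMap.rTensor_id, LinearMap.sub_apply,
    LinearMap.smul_apply, LinearMap.id_apply, LinearMap.rTensor_comp, LinearMap.comp_apply] at e
  rw [LinearMap.mem_ker] at hz
  rw [hz, map_zero, sub_zero] at e
  exact e

end Groth.Agent.H25Poinc
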