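import Groth.Agent.H25Poinc.Global
import Groth.Agent.H25Poinc.Exists
import Groth.Agent.H25Index.EulerIsogeny
import Groth.Agent.H25Index.KunnethEuler
import Groth.Agent.H25Index.Main
import Groth.Agent.H25Euler.Sections

/-!
# The square of the Euler characteristic and the degree of the polarisation homomorphism
-/

set_option autoImplicit false
set_option linter.style.haveILetI false
set_option linter.unusedSectionVars false
set_option backward.isDefEq.respectTransparency false
set_option synthInstance.maxHeartbeats 400000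
set_option maxHeartbeats 2000000
universe u

open CategoryTheory CategoryTheory.Limits MonoidalCategory CartesianMonoidalCategory MonObj AlgebraicGeometry
  TopologicalSpace Opposite
open Groth.Agent Groth.Agent.H25AbCube Groth.Agent.H25Dual Groth.Agent.H25Pic0 Groth.Agent.LeadBC Groth.Agent.LeadFF

noncomputable section

attribute [local instance] H10Coh.enoughInjMod
attribute [local instance 10000] H10Coh.hasSheafifyAb H10Coh.hasWeakSheafifyAb H10Coh.hasExtAb H10Coh.enoughInjAb

namespace Groth.Agent.H25Poinc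

theorem hd_iso {k : Type u} [Field k] {X : Scheme.{u}} [X.Over (Spec (CommRingCat.of k))] {M N : X.Modules}
    (e : M ≅ N) (n : ℕ) : H25Index.hd k M n = H25Index.hd k N n :=
  (LinearEquiv.ofLinearMap (Canon.HHlin k e.hom n) (Canon.HHlin k e.inv n)
    (LinearMap.ext fun x => by rw [LinearMap.comp_apply, ← H29RR.hhlin_comp, e.inv_hom_id, H29RR.hhlin_id]; rfl)
    (LinearMap.ext fun x => by
      rw [LinearMap.comp_apply, ← H29RR.hhlin_comp, e.hom_inv_id, H29RR.hhlin_id]; rfl)).finrank_eq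

section Support

variable {X Y : Scheme.{u}} (f : X ⟶ Y) (M : X.Modules) (S : Set Y)

/-- No cohomology over opens avoiding the support of the direct images. -/
theorem subsingleton_Hn_preimage (hS : S.Finite) (hScl : ∀ z ∈ S, IsClosed ({z} : Set Y))
    (hsupp : ∀ n y, y ∉ S → Subsingleton (((Coh.Rpush f n).obj M).presheaf.stalk y))
    (O : Y.Opens) (hO : ∀ y ∈ O, y ∉ S) (n : ℕ) :
    Subsingleton (H10Coh.Hn (H10Coh.sh M) n (f ⁻¹ᵁ O : X.Opens)) := by
  have hflq : ∀ n, H10Coh.Flasque (H10Coh.sh ((Coh.Rpush f n).obj M)) := fun n =>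
    H25Par.flasque_of_finite_support _ hS hScl (hsupp n)
  have hac : ∀ a m : ℕ, Subsingleton (H10Coh.Hn ((CohTop.Rpush f.base m).obj (Coh.toAb M)) (a + 1)
      (O : Opens Y)) := fun a m => by
    obtain ⟨em⟩ := H10Coh.nonempty_toAb_rpush f M m
    haveI : Subsingleton (H10Coh.Hn (Coh.toAb ((Coh.Rpush f m).obj M)) (a + 1) (O : Opens Y)) :=
      H10Coh.subsingleton_of_flasque (hflq m) a O
    exact subsingleton_of_forall_eq 0 fun x => by
      obtain ⟨y, rfl⟩ : ∃ y, Abelian.Ext.comp y (Abelian.Ext.mk₀ em.hom) (add_zero _) = x :=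
        ⟨x.comp (Abelian.Ext.mk₀ em.inv) (add_zero _), by simp [Abelian.Ext.comp_assoc_of_second_deg_zero]⟩
      rw [Subsingleton.elim y 0, Abelian.Ext.zero_comp]
  obtain ⟨E⟩ := H15Site.LerayDeg.nonempty_equiv_sections f.base (O : Opens Y) n (Coh.toAb M) hac
  obtain ⟨eab⟩ := H10Coh.nonempty_toAb_rpush f M n
  haveI : Subsingleton ↑(((sheafToPresheaf (Opens.grothendieckTopology ↥Y) AddCommGrpCat).obj
      (Coh.toAb ((Coh.Rpush f n).obj M))).obj (op O)) :=
    subsingleton_of_forall_eq 0 fun s =>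
      H25Par.section_eq_zero (H10Coh.sh ((Coh.Rpush f n).obj M)) (fun y hy => hsupp n y (hO y hy)) s
  exact (E.toEquiv.trans
    (((sheafToPresheaf _ _).mapIso eab).app (op O)).addCommGroupIsoToAddEquiv.toEquiv.symm).subsingleton

/-- Cohomology only sees a neighbourhood of the support of the direct images. -/
theorem hd_restrict {k : Type u} [Field k] (π : X ⟶ Spec (CommRingCat.of k)) (hS : S.Finite)
    (hScl : ∀ z ∈ S, IsClosed ({z} : Set Y))
    (hsupp : ∀ n y, y ∉ S → Subsingleton (((Coh.Rpush f n).obj M).presheaf.stalk y))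
    (W : Y.Opens) (hW : S ⊆ W) (n : ℕ) :
    @H25Index.hd X k _ ⟨π⟩ M n =
      @H25Index.hd (f ⁻¹ᵁ W).toScheme k _ ⟨(f ⁻¹ᵁ W).ι ≫ π⟩ (M.restrict (f ⁻¹ᵁ W).ι) n := by
  letI : X.Over (Spec (CommRingCat.of k)) := ⟨π⟩
  letI : (f ⁻¹ᵁ W).toScheme.Over (Spec (CommRingCat.of k)) := ⟨(f ⁻¹ᵁ W).ι ≫ π⟩
  have hSc : IsClosed S := by rw [← Set.biUnion_of_singleton S]; exact hS.isClosed_biUnion hScl
  let V : Y.Opens := ⟨Sᶜ, hSc.isOpen_compl⟩
  have hbij := bijective_resH_of_cover (H10Coh.sh M) (f ⁻¹ᵁ W) (f ⁻¹ᵁ V)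
    (top_le_iff.1 fun x _ => (em (f x ∈ S)).elim (fun h => Or.inl (hW h)) fun h => Or.inr h)
    (fun n => subsingleton_Hn_preimage f M S hS hScl hsupp V (fun _ hy => hy) n)
    (fun n => subsingleton_Hn_preimage f M S hS hScl hsupp (W ⊓ V) (fun _ hy => hy.2) n) n
  obtain ⟨θ, hθ⟩ := exists_restrictEquiv (k := k) (B := k) (f ⁻¹ᵁ W) (fun c => c) M n hbij fun c => by
    refine LeadFF.hom_ext_sections _ _ fun O m => ?_
    show scal π ((f ⁻¹ᵁ W).ι ''ᵁ O) c • (show Γ(M, (f ⁻¹ᵁ W).ι ''ᵁ O) from m) =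
      scal ((f ⁻¹ᵁ W).ι ≫ π) O c • m
    rw [show scal ((f ⁻¹ᵁ W).ι ≫ π) O c = _ from
      appIso_scal (B := k) (f ⁻¹ᵁ W) π ((f ⁻¹ᵁ W).ι ≫ π) (RingHom.id k) (by simp) O c]
    refine Eq.trans ?_ (H11Ample.toImg_smul (f ⁻¹ᵁ W) M _ m).symm
    rw [Iso.hom_inv_id_apply]
  exact ({ θ with map_smul' := hθ } : Coh.HH X M n ≃ₗ[k] Coh.HH _ (M.restrict (f ⁻¹ᵁ W).ι) n).finrank_eq

end Support

/-- An invertible module is trivial near finitely many closed points. -/
theorem exists_trivial_nhd {X : Scheme.{u}} [CompactSpace X] [QuasiSeparatedSpace X] {H : X.Modules}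
    (hH : CohB1.IsAmple H) {L : X.Modules} (hL : PicF.IsInvertible L) {Z : Set X} (hZ : Z.Finite)
    (hcl : ∀ z ∈ Z, IsClosed ({z} : Set X)) :
    ∃ W : X.Opens, Z ⊆ W ∧ Nonempty (L.restrict W.ι ≅ Coh.structureModule W.toScheme) := by
  obtain ⟨j, s, -, hZs, -, hV⟩ := H11Ample.exists_affine_gen_nhd_finite hH hZ (U := ⊤) (fun _ _ => trivial)
  obtain ⟨e, he⟩ := H25Euler.exists_gen_affine hL hV hZ hZs fun z hz z' _ h =>
    (by simpa using h.mem_closed (hcl z hz) rfl : z' = z).symm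
  choose Wz hWz hzW hgen using he
  let W : X.Opens := ⨆ z : Z, Wz z.1 z.2
  have hWV : W ≤ H11Ample.gen (CohB1.tensorPow H j) s := iSup_le fun z => hWz z.1 z.2
  have hg : H11Tilde.IsGen L (L.presheaf.map (homOfLE hWV).op e) := fun y hy => by
    obtain ⟨z, hz⟩ := Opens.mem_iSup.1 hy
    have h := hgen z.1 z.2 y hz
    simp only [TopCat.Presheaf.germ_res_apply] at h ⊢
    exact h
  exact ⟨W, fun z hz => Opens.mem_iSup.2 ⟨⟨z, hz⟩, hzW z hz⟩,
    H11Tilde.nonempty_iso_structureModule L W _ fun V hV' => hg.bijective hV'⟩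

variable {k : Type u} [Field k] [IsAlgClosed k] {A : Over (Spec (CommRingCat.of k))} [GrpObj A]
  [IsProper A.hom] [GeometricallyIntegral A.hom]

/-- A family with the translation slices has its direct images supported on the fixing points. -/
theorem exists_supp (ℓ : PC A.left)
    (hfin : Set.Finite {a : 𝟙_ (Over (Spec (CommRingCat.of k))) ⟶ A | transl ℓ a = ℓ})
    (K : (A ⊗ A).left.Modules) (hK : PicF.IsInvertible K)
    (hq : ∀ t, pc _ (H11Ample.isInvertible_pullback (lift (𝟙 A) (toUnit A ≫ t)).left hK) = transl ℓ t - ℓ) :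
    ∀ n y, y ∉ (fun a : 𝟙_ (Over (Spec (CommRingCat.of k))) ⟶ A => a.left (IsLocalRing.closedPoint k)) ''
        {a | transl ℓ a = ℓ} →
      Subsingleton (((Coh.Rpush (snd A A).left n).obj K).presheaf.stalk y) := by
  classical
  letI : A.left.Over (Spec (CommRingCat.of k)) := ⟨A.hom⟩
  haveI : IsLocallyNoetherian A.left := LocallyOfFiniteType.isLocallyNoetherian A.hom
  haveI : JacobsonSpace A.left := LocallyOfFiniteType.jacobsonSpace A.hom
  let S : Set A.left := (fun a : 𝟙_ (Over (Spec (CommRingCat.of k))) ⟶ A => a.left (IsLocalRing.closedPoint k)) ''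
    {a | transl ℓ a = ℓ}
  have hS : S.Finite := hfin.image _
  have hScl : ∀ z ∈ S, IsClosed ({z} : Set A.left) := by
    rintro _ ⟨a, -, rfl⟩
    exact mem_closedPoints_iff.1 (pointEquivClosedPoint A.hom ⟨a.left, Over.w a⟩).2
  have hSc : IsClosed S := by rw [← Set.biUnion_of_singleton S]; exact hS.isClosed_biUnion hScl
  let q := (snd A A).left
  haveI : IsProper q := MorphismProperty.pullback_snd (P := @IsProper) A.hom A.hom inferInstance
  haveI : Flat q := MorphismProperty.pullback_snd (P := @Flat) A.hom A.hom inferInstance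
  haveI : LocallyOfFinitePresentation q := LocallyOfFinitePresentation.iff_locallyOfFiniteType.2 inferInstance
  have hKc := H11Ample.isCoh_of_isInvertible hK
  haveI : K.IsQuasicoherent := hKc.1
  have hfl := H10Coh.SheafHom.isFlatOver_of_isFinLocFree q K (H23Para.isFinLocFree_of_isInvertible hK)
  intro n y hy
  obtain ⟨z, ⟨hz, hzS⟩, hzc⟩ := nonempty_inter_closedPoints (Z := closure ({y} : Set A.left) ∩ Sᶜ)
    ⟨y, subset_closure rfl, hy⟩ (isClosed_closure.isLocallyClosed.inter hSc.isOpen_compl.isLocallyClosed)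
  have hzcl := mem_closedPoints_iff.1 hzc
  obtain ⟨t, ht⟩ := H25Pic0.exists_point z hzcl
  obtain ⟨U, hU, h0⟩ := H25Pic0.exists_nhd_isZero q K hK (lift (𝟙 A) (toUnit A ≫ t)).left t.left
    (H25Pic0.isPullback_slice_snd t) (by rw [hq]; exact H25Pic0.phi_additive ℓ t)
    (by rw [hq, ne_eq, sub_eq_zero]; exact fun h => hzS ⟨t, h, ht⟩) n
  exact subsingleton_stalk_of_restrict _ U h0 y
    ((specializes_iff_mem_closure.2 hz).mem_open U.isOpen (ht ▸ hU))

variable {At : Over (Spec (CommRingCat.of k))} [GrpObj At] [IsProper At.hom] [GeometricallyIntegral At.hom]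
  {φ : ∀ T : Over (Spec (CommRingCat.of k)), PicF.Cl (PicF.XT A.hom T) → (T ⟶ At)}
  (hφ : AbDual.IsDualAV Scheme.fppfPrecoverage A At φ)

include hφ in
/-- A finite polarisation homomorphism has finitely many fixing points. -/
theorem finite_fixing_of_isFinite (ℓ : PC A.left) [IsFinite (Φ φ A (theta ℓ)).left] :
    Set.Finite {a : 𝟙_ (Over (Spec (CommRingCat.of k))) ⟶ A | transl ℓ a = ℓ} := by
  haveI : IsCommMonObj A := isCommMonObj_of_av
  let F := Φ φ A (theta ℓ)
  let e : At.left := (1 : 𝟙_ (Over (Spec (CommRingCat.of k))) ⟶ At).left (IsLocalRing.closedPoint k)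
  refine Set.Finite.of_finite_image (f := fun a : 𝟙_ (Over (Spec (CommRingCat.of k))) ⟶ A =>
    a.left (IsLocalRing.closedPoint k)) ((F.left.finite_preimage_singleton e).subset ?_) ?_
  · rintro _ ⟨x, hx, rfl⟩
    obtain ⟨h1, h2⟩ := comp_lam hφ ℓ (T := 𝟙_ _) x
    have h3 : th ℓ (fst A (𝟙_ _)) (snd A (𝟙_ _) ≫ x) = 0 := by
      refine (atPt_eq_zero_iff _).1 ?_
      rw [atPt, ev_th, lift_fst, lift_snd_assoc]
      have h4 := transl_eq_add_th ℓ x
      rw [show transl ℓ x = ℓ from hx] at h4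
      exact left_eq_add.1 h4
    have h5 : x ≫ F = 1 := by rw [h1, h3, Φ_zero hφ]
    show F.left (x.left (IsLocalRing.closedPoint k)) = e
    rw [← Scheme.Hom.comp_apply, ← Over.comp_left, h5]
  · intro a _ b _ hab
    refine Over.OverMorphism.ext (congrArg Subtype.val ((pointEquivClosedPoint A.hom).injective
      (a₁ := ⟨a.left, Over.w a⟩) (a₂ := ⟨b.left, Over.w b⟩) (Subtype.ext hab)))

include hφ in
/-- The Riemann–Roch theorem on abelian varieties: the square of the Euler characteristic is the degree. -/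
theorem euler_sq (L : A.left.Modules) (hL : PicF.IsInvertible L)
    (Λ : (A ⊗ A).left.Modules) (hΛ : PicF.IsInvertible Λ) (hu : pc Λ hΛ = theta (pc L hL))
    [IsFinite (φ A (PicF.cl Λ)).left] [Flat (φ A (PicF.cl Λ)).left]
    (d : ℕ) (hd : ∀ y : ↥At.left, Scheme.Hom.finrank (φ A (PicF.cl Λ)).left y = d) :
    @Curv2.euler k _ A.left ⟨A.hom⟩ L ^ 2 = (d : ℤ) := by
  classical
  letI : A.left.Over (Spec (CommRingCat.of k)) := ⟨A.hom⟩
  haveI : IsProper (A.left ↘ Spec (CommRingCat.of k)) := ‹IsProper A.hom›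
  haveI : IsCommMonObj A := isCommMonObj_of_av
  haveI : IsCommMonObj At := isCommMonObj_of_av
  haveI : IsIntegral A.left := GeometricallyIntegral.isIntegral_of_subsingleton A.hom
  haveI : IsIntegral At.left := GeometricallyIntegral.isIntegral_of_subsingleton At.hom
  haveI : IsLocallyNoetherian A.left := LocallyOfFiniteType.isLocallyNoetherian A.hom
  haveI : IsLocallyNoetherian At.left := LocallyOfFiniteType.isLocallyNoetherian At.hom
  haveI : CompactSpace A.left := QuasiCompact.compactSpace_of_compactSpace A.hom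
  haveI : QuasiSeparatedSpace A.left := quasiSeparatedSpace_of_quasiSeparated A.hom
  let ℓ := pc L hL
  let F := φ A (PicF.cl Λ)
  have hF : Φ φ A (theta ℓ) = F := by rw [← hu]; exact Φ_pc A Λ hΛ
  haveI : IsMonHom F := hF ▸ isMonHom_lam hφ ℓ
  haveI : LocallyOfFinitePresentation F.left := LocallyOfFinitePresentation.iff_locallyOfFiniteType.2 inferInstance
  haveI : Nonempty A.left := ⟨(η[A] : 𝟙_ _ ⟶ A).left (IsLocalRing.closedPoint k)⟩
  have hd0 : d ≠ 0 := by
    have h := F.left.one_le_finrank_map (Classical.arbitrary A.left)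
    rw [hd] at h
    omega
  haveI : Surjective F.left := F.left.one_le_finrank_iff_surjective.1 fun y => by
    show 1 ≤ F.left.finrank y
    rw [hd]
    omega
  -- a Poincaré module
  have hz : AbDual.IsPicZeroCl A.hom A (PicF.cl Λ) := by
    have h := pz_theta (A := A) ℓ
    rw [← hu] at h
    unfold PZ at h
    rwa [toCl_pc] at h
  have hr : IsRigidified A Λ := by
    have h := rig_theta (A := A) ℓ
    rw [← hu, ev, ← pullP_pc _ Λ hΛ (H11Ample.isInvertible_pullback _ hΛ), ← pc_one] at h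
    obtain ⟨e⟩ := (pc_eq_iff _ _).1 h
    exact ⟨(Scheme.Modules.pullbackCongr (secT_eq A)).app Λ ≪≫ e⟩
  obtain ⟨P, hP, hξ, ⟨iP⟩⟩ := exists_poincare_of_cover hφ Λ hΛ hz hr F rfl
  obtain ⟨g, hg⟩ := H25Grp.exists_nat_dim A.hom
  obtain ⟨-, -, hgt, -⟩ := local_facts hφ P hP hξ g hg
  letI : (A ⊗ At).left.Over (Spec (CommRingCat.of k)) := ⟨(A ⊗ At).hom⟩
  letI : (A ⊗ A).left.Over (Spec (CommRingCat.of k)) := ⟨(A ⊗ A).hom⟩
  haveI : IsProper (A ⊗ At).hom := inferInstance
  haveI : IsProper (A ⊗ A).hom := inferInstance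
  haveI : GeometricallyIntegral (A ⊗ At).hom := H25Rig.geometricallyIntegral_tensor A At
  haveI : GeometricallyIntegral (A ⊗ A).hom := H25Rig.geometricallyIntegral_tensor A A
  obtain ⟨hP0, hP1, -, -⟩ := global_facts hφ P hP hξ g hg
  have hχP : Curv2.euler k (A ⊗ At).left P = (-1) ^ g := by
    rw [H25Index.euler_eq_of_concentrated (A := A ⊗ At) P g hP0]
    show (-1) ^ g * ((Module.finrank k (Coh.HH (A ⊗ At).left P g) : ℕ) : ℤ) = _
    rw [hP1, Nat.cast_one, _root_.mul_one]
  -- pulling back to the square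
  obtain ⟨H, hH⟩ := exists_isAmple A
  obtain ⟨HP, hHP⟩ := exists_isAmple (A ⊗ At)
  let f := A ◁ F
  have hsq : IsPullback f.left (snd A A).left (snd A At).left F.left := by
    refine IsPullback.of_right ?_ ?_ (IsPullback.of_hasPullback A.hom At.hom)
    · rw [show f.left ≫ pullback.fst A.hom At.hom = pullback.fst A.hom A.hom from
        (congrArg CommaMorphism.left (whiskerLeft_fst A F) : _), Over.w F]
      exact IsPullback.of_hasPullback A.hom A.hom
    · exact congrArg CommaMorphism.left (whiskerLeft_snd A F)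
  haveI : IsFinite f.left := MorphismProperty.of_isPullback (P := @IsFinite) hsq.flip ‹IsFinite F.left›
  haveI : Flat f.left := MorphismProperty.of_isPullback (P := @Flat) hsq.flip ‹Flat F.left›
  have hfd : ∀ y, f.left.finrank y = d := fun y => (Scheme.Hom.finrank_of_isPullback _ _ _ _ hsq.flip y).trans (hd _)
  have h1 := H25Index.euler_pullback (k := k) hHP f (g + g) (dim_tensor hg hgt).le d hd0 hfd P hP
  rw [hχP] at h1
  have hΛχ : Curv2.euler k (A ⊗ A).left Λ = d * (-1) ^ g := by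
    refine Eq.trans (H25Euler.euler_congr ?_) h1
    exact iP.symm ≪≫ (Scheme.Modules.pullbackCongr (XTmap_eq F)).app P
  -- twisting by the second factor
  let K := CohB1.tensorMod Λ ((Scheme.Modules.pullback (snd A A).left).obj L)
  have hK : PicF.IsInvertible K := H11Ample.isInvertible_tensor hΛ (H11Ample.isInvertible_pullback _ hL)
  have hκ : pc K hK = ev ℓ (fst A A * snd A A) - ev ℓ (fst A A) := by
    rw [pc_tensor hΛ (H11Ample.isInvertible_pullback _ hL), hu, pullP_pc _ L hL, theta]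
    show ev ℓ _ - ev ℓ _ - ev ℓ _ + ev ℓ (snd A A) = _
    abel
  have hid : ev ℓ (𝟙 A) = ℓ := pullP_id _
  haveI : IsFinite (Φ φ A (theta ℓ)).left := by rw [hF]; infer_instance
  have hfin := finite_fixing_of_isFinite hφ ℓ
  have hqK : ∀ t, pc _ (H11Ample.isInvertible_pullback (lift (𝟙 A) (toUnit A ≫ t)).left hK) = transl ℓ t - ℓ :=
    fun t => by
      rw [pullP_pc _ K hK, hκ, map_sub]
      show ev (ev ℓ _) _ - ev (ev ℓ _) _ = _
      rw [ev_comp, ev_comp, MonObj.comp_mul, lift_fst, lift_snd, hid]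
      rfl
  have hqΛ : ∀ t, pc _ (H11Ample.isInvertible_pullback (lift (𝟙 A) (toUnit A ≫ t)).left hΛ) = transl ℓ t - ℓ :=
    fun t => by
      rw [pullP_pc _ Λ hΛ, hu]
      show ev (theta ℓ) _ = _
      rw [ev_theta, hid, ev_const, sub_zero]
      rfl
  let S : Set A.left := (fun a : 𝟙_ (Over (Spec (CommRingCat.of k))) ⟶ A => a.left (IsLocalRing.closedPoint k)) ''
    {a | transl ℓ a = ℓ}
  have hScl : ∀ z ∈ S, IsClosed ({z} : Set A.left) := by
    rintro _ ⟨a, -, rfl⟩
    exact mem_closedPoints_iff.1 (pointEquivClosedPoint A.hom ⟨a.left, Over.w a⟩).2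
  obtain ⟨W, hSW, ⟨τ⟩⟩ := exists_trivial_nhd hH hL (hfin.image _) hScl
  let q := (snd A A).left
  let U : (A ⊗ A).left.Opens := q ⁻¹ᵁ W
  obtain ⟨iU⟩ : Nonempty (K.restrict U.ι ≅ Λ.restrict U.ι) := by
    let qW : U.toScheme ⟶ W.toScheme := q ∣_ W
    let eL : ((Scheme.Modules.pullback q).obj L).restrict U.ι ≅ Coh.structureModule U.toScheme :=
      (Scheme.Modules.restrictFunctorIsoPullback U.ι).app _ ≪≫ (Scheme.Modules.pullbackComp U.ι q).app L ≪≫
        (Scheme.Modules.pullbackCongr (morphismRestrict_ι q W).symm).app L ≪≫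
        ((Scheme.Modules.pullbackComp qW W.ι).app L).symm ≪≫
        (Scheme.Modules.pullback qW).mapIso (((Scheme.Modules.restrictFunctorIsoPullback W.ι).app L).symm ≪≫ τ) ≪≫
        PicLoc.pullbackStructureIso qW
    obtain ⟨e₁⟩ := H10Coh.Tw.nonempty_restrict_tensor U Λ (H11Ample.isInvertible_pullback q hL)
    exact ⟨e₁.symm ≪≫ PicGrp.tensorModIso (Iso.refl _) eL ≪≫ H10Coh.Tw.rightUnitIso _⟩
  letI : U.toScheme.Over (Spec (CommRingCat.of k)) := ⟨U.ι ≫ (A ⊗ A).hom⟩
  have hKΛ : Curv2.euler k (A ⊗ A).left K = Curv2.euler k (A ⊗ A).left Λ := by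
    refine finsum_congr fun n => ?_
    have h := (hd_restrict q K S (A ⊗ A).hom (hfin.image _) hScl (exists_supp ℓ hfin K hK hqK) W hSW n).trans
      ((hd_iso (k := k) iU n).trans
        (hd_restrict q Λ S (A ⊗ A).hom (hfin.image _) hScl (exists_supp ℓ hfin Λ hΛ hqΛ) W hSW n).symm)
    show (-1) ^ n * ((H25Index.hd k K n : ℕ) : ℤ) = (-1) ^ n * ((H25Index.hd k Λ n : ℕ) : ℤ)
    rw [h]
  -- the shear
  let σ : A ⊗ A ≅ A ⊗ A :=
    { hom := lift (fst A A * snd A A) (fst A A)
      inv := lift (snd A A) ((snd A A)⁻¹ * fst A A)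
      hom_inv_id := CartesianMonoidalCategory.hom_ext _ _
        (by rw [Category.assoc, lift_fst, lift_snd, Category.id_comp])
        (by rw [Category.assoc, lift_snd, MonObj.comp_mul, GrpObj.comp_inv, lift_fst, lift_snd, Category.id_comp,
          inv_mul_cancel_left])
      inv_hom_id := CartesianMonoidalCategory.hom_ext _ _
        (by rw [Category.assoc, lift_fst, MonObj.comp_mul, lift_fst, lift_snd, Category.id_comp,
          mul_inv_cancel_left])
        (by rw [Category.assoc, lift_snd, lift_fst, Category.id_comp]) }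
  haveI : IsIso σ.hom.left := ((Over.forget _).mapIso σ).isIso_hom
  obtain ⟨K', hK', hK'c⟩ := exists_rep (ev ℓ (fst A A) - ev ℓ (snd A A))
  obtain ⟨iK⟩ : Nonempty (K ≅ (Scheme.Modules.pullback σ.hom.left).obj K') :=
    (pc_eq_iff hK (H11Ample.isInvertible_pullback _ hK')).1 (by
      rw [hκ, pullP_pc _ K' hK', hK'c, map_sub]
      show _ = ev (ev _ _) _ - ev (ev _ _) _
      rw [ev_comp, ev_comp, lift_fst, lift_snd])
  haveI : IsMonHom σ.hom := H25Rig.isMonHom_of_one_hom σ.hom (CartesianMonoidalCategory.hom_ext _ _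
    (by simp [σ, MonObj.comp_mul, MonObj.one_eq_one, MonObj.one_comp])
    (by simp [σ, MonObj.one_eq_one, MonObj.one_comp]))
  haveI : IsCommMonObj (A ⊗ A) := isCommMonObj_of_av
  obtain ⟨HA2, hHA2⟩ := exists_isAmple (A ⊗ A)
  have h2 := H25Index.euler_pullback (k := k) hHA2 σ.hom (g + g) (dim_tensor hg hg).le 1 one_ne_zero
    (fun y => by rw [Scheme.Hom.finrank_eq_one_of_isIso]; rfl) K' hK'
  rw [Nat.cast_one, _root_.one_mul, ← H25Euler.euler_congr iK, hKΛ, hΛχ] at h2
  have h3 := H25Index.chiCls_box (A := A) (B := A) hH hH hg hg (dim_tensor hg hg) ℓ (-ℓ)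
  rw [H25Index.chiCls_neg hg ℓ, show ev (-ℓ) (snd A A) = - ev ℓ (snd A A) from map_neg _ _, ← sub_eq_add_neg,
    ← hK'c, chiCls_pc, chiCls_pc, ← h2] at h3
  have h4 : (-1 : ℤ) ^ g * (-1) ^ g = 1 := by rw [← mul_pow, neg_one_mul, neg_neg, one_pow]
  linear_combination (-(-1) ^ g) * h3 + (d - Curv2.euler k A.left L ^ 2) * h4

end Groth.Agent.H25Poinc
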